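import Cfsg.Agent.OddHalf.D8.JTwo.Sheet
import Cfsg.Agent.OddHalf.D8.MainE
import Cfsg.Agent.OddHalf.D8.CaseX
import Cfsg.Agent.KFacts.J2.SheetX
import Cfsg.Agent.J2.ExtQuot
import Cfsg.Agent.SylowU5.Iso
import Cfsg.Agent.S0364
import Cfsg.Agent.SignalizersComponents.CharP

-- merged: Cfsg.Agent.OddHalf.D8.JTwo.Glue
section

/-!
# ODD half, D8, type (E) without the `y`-trick: from the sheet of `K` to `G` (helper915, helper826)

Copies of `GlueE.EmbE.mem_of_trivial` and `MainE.data` for `SheetX`.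
-/

set_option autoImplicit false

namespace Cfsg.Agent.OddHalf.D8.JTwo.Glue

open Subgroup Cfsg Cfsg.Agent.OddHalf.Front.FE Cfsg.Agent.OddHalf.D8.Sheet Cfsg.Agent.OddHalf.D8.GlueE
  Cfsg.Agent.OddHalf.D8.Front Cfsg.Agent.OddHalf.D8.MainE Cfsg.Agent.OddHalf.D8.JTwo.Sheet

universe u

variable {G : Type u} [Group G]

/-- the data -/
structure EmbX (K : Subgroup G) (t q : G) (z : K) (P R : Subgroup K) : Prop where
  st : Start K t q
  sh : SheetX z P R

namespace EmbX

variable {K : Subgroup G} {t q : G} {z : K} {P R : Subgroup K}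

theorem emb [Finite G] (h : EmbX K t q z P R) : Emb K t q z P := ⟨h.st, h.sh.basic⟩

/-- 2-elements of `N` trivial on `P/R` -/
theorem mem_of_trivial [Finite G] (h : EmbX K t q z P R) {x : G} (hx2 : IsPGroup 2 (zpowers x))
    (hxt : x * t = t * x) (hxz : x * z = z * x)
    (hx : ∀ p ∈ P.map K.subtype, p⁻¹ * (x * p * x⁻¹) ∈ R.map K.subtype) :
    ∃ r ∈ R.map K.subtype, r⁻¹ * x ∈ zpowers q := by
  have hE := h.emb
  obtain ⟨r, hr, e⟩ := h.sh.aut (K.normalizerMonoidHom ⟨x, hE.nor hxt⟩)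
    (isPGroup_nmh (hE.nor hxt) hx2) (hE.aut_z hxt hxz) (by
    intro p hp
    have h1 := hx p ⟨p, hp, rfl⟩
    obtain ⟨h2, h3⟩ := Emb.mem_map.1 h1
    convert h3 using 1
    apply Subtype.ext
    rw [Subgroup.coe_mul, nmh_apply]
    rfl)
  refine ⟨r, ⟨r, hr, rfl⟩, ?_⟩
  apply h.st.cK
  · have h4 := h.st.Kt (r : G)⁻¹ (K.inv_mem r.2)
    calc (r : G)⁻¹ * x * t = (r : G)⁻¹ * (x * t) := by group
      _ = ((r : G)⁻¹ * t) * x := by rw [hxt]; group
      _ = t * ((r : G)⁻¹ * x) := by rw [h4]; group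
  · exact exists_of_conj (hE.nor hxt) e

end EmbX

/-- the data of type (E) in `G` -/
theorem data (C : Iface.Ctx G) {K : Subgroup G} {t q : G} {z : K} {P R : Subgroup K}
    (o : Out K t q z P) (sh : SheetX z P R)
    (hM : ∀ M : Subgroup ↥(centralizer ({(z : G)} : Set G)), ¬ IsComponent M) :
    TypeE.Data t (z : G) (centralizer ({t} : Set G) ⊓ centralizer ({(z : G)} : Set G))
      (P.map K.subtype) (R.map K.subtype)
      ((pCore 2 ↥(centralizer ({(z : G)} : Set G))).map (centralizer ({(z : G)} : Set G)).subtype) := by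
  have hfin := C.fin
  have h := o.emb
  have hE : EmbX K t q z P R := ⟨h.st, sh⟩
  have hbot := core_eq_bot C (orderOf_z h)
  have hlay : layer ↥(centralizer ({(z : G)} : Set G)) = ⊥ := by
    unfold layer
    rw [sSup_eq_bot]
    intro M hMc
    exact absurd hMc (hM M)
  have hself := (Cfsg.Agent.SignalizersComponents.PConstrained.centralizer_pCore_le_iff_layer_eq_bot 2
    hbot).2 hlay
  have hPz : ∀ p ∈ P.map K.subtype, p * (z : G) = z * p := by
    rintro _ ⟨p, hp, rfl⟩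
    exact congrArg Subtype.val (sh.cen p hp)
  have hPt : ∀ p ∈ P.map K.subtype, p * t = t * p := by
    rintro _ ⟨p, -, rfl⟩
    exact h.st.Kt p p.2
  -- subgroups of `P`
  have hsub : ∀ Y : Subgroup G, Y ≤ P.map K.subtype →
      (∀ n ∈ centralizer ({t} : Set G) ⊓ centralizer ({(z : G)} : Set G), ∀ y ∈ Y, n * y * n⁻¹ ∈ Y) →
      Y.subgroupOf K ≤ P ∧ (∀ x ∈ P, ∀ b ∈ Y.subgroupOf K, x * b * x⁻¹ ∈ Y.subgroupOf K) ∧
      (Y.subgroupOf K).map K.subtype = Y := by
    intro Y hY hn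
    refine ⟨?_, ?_, ?_⟩
    · intro y hy
      obtain ⟨_, h2⟩ := Emb.mem_map.1 (hY (mem_subgroupOf.1 hy))
      exact h2
    · intro x hx b hb
      rw [mem_subgroupOf] at hb ⊢
      exact hn x ⟨mem_centralizer_singleton_iff.2 (h.st.Kt x x.2),
        mem_centralizer_singleton_iff.2 (congrArg Subtype.val (sh.cen x hx))⟩ b hb
    · rw [subgroupOf_map_subtype, inf_eq_left]
      exact hY.trans (map_subtype_le _)
  exact
    { tt := h.st.tt
      zz := h.zz
      z1 := h.z1
      comm := h.comm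
      pF := (Cfsg.Agent.Lib.Cores.pCore_isPGroup 2).map _
      leF := by
        rintro _ ⟨x, -, rfl⟩
        exact mem_centralizer_singleton_iff.1 x.2
      norF := by
        rintro g hg _ ⟨x, hx, rfl⟩
        exact ⟨⟨g, mem_centralizer_singleton_iff.2 hg⟩ * x * ⟨g, mem_centralizer_singleton_iff.2 hg⟩⁻¹,
          (Cfsg.Agent.Lib.Cores.pCore_normal 2).conj_mem x hx _, rfl⟩
      selfF := by
        intro g hg hc
        refine ⟨⟨g, mem_centralizer_singleton_iff.2 hg⟩, hself ?_, rfl⟩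
        rw [mem_centralizer_iff]
        intro x hx
        exact Subtype.ext (hc x ⟨x, hx, rfl⟩).symm
      hN := by
        intro n hn
        refine ⟨mem_centralizer_singleton_iff.1 hn.2, Or.inl ?_⟩
        rw [mem_centralizer_singleton_iff.1 hn.1]; group
      cN := fun n h1 h2 => ⟨mem_centralizer_singleton_iff.2 h1, mem_centralizer_singleton_iff.2 h2⟩
      Pt := hPt
      Pz := hPz
      norP := fun n hn p hp => h.conj_P (mem_centralizer_singleton_iff.1 hn.1)
        (mem_centralizer_singleton_iff.1 hn.2) hp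
      perf := by rw [← map_commutator, sh.perf]
      zP := ⟨z, sh.zP, rfl⟩
      RP := map_mono sh.RP
      core := by
        intro Y hY hY2 hn
        obtain ⟨h1, h2, h3⟩ := hsub Y hY hn
        rw [← h3]
        refine map_mono (sh.Rmax _ h1 ?_ h2)
        exact hY2.comap_of_injective K.subtype K.subtype_injective
      irr := by
        intro Y hY hn
        obtain ⟨h1, h2, h3⟩ := hsub Y (hY.trans (map_mono sh.RP)) hn
        have h4 : Y.subgroupOf K ≤ R := by
          intro y hy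
          obtain ⟨_, h5⟩ := Emb.mem_map.1 (hY (mem_subgroupOf.1 hy))
          exact h5
        rcases sh.Rmin _ h4 h2 with h5 | h5
        · left
          intro y hy
          rw [← h3] at hy
          obtain ⟨b, hb, rfl⟩ := hy
          rcases h5 b hb with e | e
          · exact Or.inl (congrArg Subtype.val e)
          · exact Or.inr (congrArg Subtype.val e)
        · right
          rw [← h3, h5]
      nab := by
        obtain ⟨a, ha, b, hb, hab⟩ := sh.Rna
        exact ⟨a, ⟨a, ha, rfl⟩, b, ⟨b, hb, rfl⟩, fun e => hab (Subtype.ext e)⟩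
      out := by
        intro n hn2 hnt hnz hc
        obtain ⟨r, hr, hrn⟩ := hE.mem_of_trivial hn2 hnt hnz (by
          intro p hp
          have h1 := hc p hp
          have h2 : p⁻¹ * (n * p * n⁻¹) = p⁻¹ * (n * p * n⁻¹ * p⁻¹) * p⁻¹⁻¹ := by group
          rw [h2]
          obtain ⟨p', hp', rfl⟩ := hp
          obtain ⟨r', hr', e⟩ := h1
          refine ⟨p'⁻¹ * r' * p'⁻¹⁻¹, sh.Rn _ (P.inv_mem hp') r' hr', ?_⟩
          have e' : (r' : G) = n * (p' : G) * n⁻¹ * (p' : G)⁻¹ := e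
          show (p' : G)⁻¹ * r' * (p' : G)⁻¹⁻¹ = _
          rw [e']
          rfl)
        rcases o.Q2 _ hrn with e | e
        · left
          have : n = r := (inv_mul_eq_one.1 e).symm
          rw [this]; exact hr
        · right
          have h1 : n = r * t := by rw [← e]; group
          have h2 : r * t = t * r := by
            obtain ⟨r', -, rfl⟩ := hr
            exact h.st.Kt r' r'.2
          have h3 : t * n = r := by rw [h1, h2, ← mul_assoc, h.st.tt, one_mul]
          rw [h3]; exact hr }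

end Cfsg.Agent.OddHalf.D8.JTwo.Glue

end

-- merged: Cfsg.Agent.OddHalf.D8.JTwo.Small
section

/-!
# ODD half, D8, row `J₂`: the case `t ∈ O₂(C(z))`, part 1 (helper826)

`notMem`: if `⟨t, z⟩` is normal in `C_G(z)`, then `t` is not in the commutator subgroup of `C_G(z)`.
-/

set_option autoImplicit false

namespace Cfsg.Agent.OddHalf.D8.JTwo.Small

open Subgroup Cfsg Cfsg.Agent.OddHalf.Front.FE Cfsg.Agent.OddHalf.D8.Sheet Cfsg.Agent.OddHalf.D8.GlueE
  Cfsg.Agent.OddHalf.D8.Front Cfsg.Agent.OddHalf.D8.MainE Cfsg.Agent.OddHalf.D8.JTwo.Sheet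
  Cfsg.Agent.OddHalf.D8.JTwo.Glue Cfsg.Agent.J2Type.Model Cfsg.Agent.J2Type.SPFacts Cfsg.Agent.J2Type.CStruct
  Cfsg.Agent.J3Type.OneClass Cfsg.Agent.J2Type.Base Cfsg.Agent.KFacts.J2.Basic Cfsg.Agent.KFacts.J2.Facts
  Cfsg.Agent.KFacts.J2.SheetX

universe u

variable {G : Type u} [Group G]

/-- `α(R) ≤ R` for automorphisms fixing `z` -/
theorem map_R {K : Type*} [Group K] {z : K} {P R : Subgroup K} (h : SheetX z P R) (α : MulAut K) (hα : α z = z)
    {x : K} (hx : x ∈ R) : α x ∈ R := by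
  have hP : ∀ x ∈ P, α x ∈ P := fun x hx => map_P h.perf h.cen h.der α hα hx
  have hα' : α⁻¹ z = z := by
    calc α⁻¹ z = α⁻¹ (α z) := by rw [hα]
      _ = z := MulAut.inv_apply_self _ _ _
  have hP' : ∀ x ∈ P, α⁻¹ x ∈ P := fun x hx => map_P h.perf h.cen h.der α⁻¹ hα' hx
  have h1 : R.map α.toMonoidHom ≤ R := by
    apply h.Rmax
    · rintro _ ⟨r, hr, rfl⟩
      exact hP r (h.RP hr)
    · exact h.R2.map _
    · rintro x hx _ ⟨r, hr, rfl⟩
      refine ⟨α⁻¹ x * r * (α⁻¹ x)⁻¹, h.Rn _ (hP' x hx) r hr, ?_⟩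
      change α (α⁻¹ x * r * (α⁻¹ x)⁻¹) = x * α r * x⁻¹
      rw [map_mul, map_mul, map_inv, MulAut.apply_inv_self]
  exact h1 ⟨x, hx, rfl⟩

/-- the `XHyp` of type (E) -/
theorem xhyp {K : Subgroup G} {t q : G} {z : K} {P R : Subgroup K} {F : Subgroup G} (o : Out K t q z P)
    (sh : SheetX z P R)
    (D : TypeE.Data t (z : G) (centralizer ({t} : Set G) ⊓ centralizer ({(z : G)} : Set G))
      (P.map K.subtype) (R.map K.subtype) F) (htF : t ∈ F) :
    CaseX.XHyp t (z : G) (P.map K.subtype) (R.map K.subtype) F := by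
  have hmem : ∀ {n : G}, n ∈ centralizer ({t} : Set G) ⊓ centralizer ({(z : G)} : Set G) →
      n * t = t * n ∧ n * z = z * n := fun h =>
    ⟨mem_centralizer_singleton_iff.1 h.1, mem_centralizer_singleton_iff.1 h.2⟩
  have hN : ∀ n, n * t = t * n → n * z = z * n → n ∈ centralizer ({t} : Set G) ⊓ centralizer ({(z : G)} : Set G) :=
    fun n h1 h2 => ⟨mem_centralizer_singleton_iff.2 h1, mem_centralizer_singleton_iff.2 h2⟩
  exact
    { tt := D.tt
      zz := D.zz
      z1 := D.z1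
      comm := D.comm
      F2 := D.pF
      Fz := D.leF
      Fn := D.norF
      Fc := D.selfF
      tF := htF
      Pt := D.Pt
      Pz := D.Pz
      Pn := fun n h1 h2 => D.norP n (D.cN n h1 h2)
      Pp := D.perf
      RP := D.RP
      hR := fun B hB h2 hn => D.core B hB h2 fun n hn' => hn n (hmem hn').1 (hmem hn').2
      Rn := by
        intro n hnt hnz
        rintro _ ⟨r, hr, rfl⟩
        refine ⟨K.normalizerMonoidHom ⟨n, o.emb.nor hnt⟩ r, map_R sh _ (o.emb.aut_z hnt hnz) hr, ?_⟩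
        exact nmh_apply _ r
      hmin := fun B hB hn => D.irr B hB fun n hn' => hn n (hmem hn').1 (hmem hn').2
      hna := D.nab
      hC := D.out
      hx := by
        obtain ⟨x, -, hxt, hxz⟩ := o.swap
        exact ⟨x, mul_inv_eq_iff_eq_mul.1 hxz, hxt⟩ }

section

variable {K : Subgroup G} {t q : G} {z u : K} {Q : Subgroup (centralizer ({z} : Set K))}
  {v : Fin 5 → centralizer ({z} : Set K)} {ρ : centralizer ({z} : Set K) →* SP}

/-- `P = C_K(z)` as a subgroup of `G` -/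
abbrev PP (z : K) : Subgroup G := (centralizer ({z} : Set K)).map K.subtype

/-- `R` as a subgroup of `G` -/
abbrev RR (Q : Subgroup (centralizer ({z} : Set K))) : Subgroup G :=
  (Q.map (centralizer ({z} : Set K)).subtype).map K.subtype

theorem mem_PP {x : G} : x ∈ PP z ↔ x ∈ K ∧ x * z = z * x := by
  rw [PP, Emb.mem_map]
  constructor
  · rintro ⟨hx, h⟩
    exact ⟨hx, congrArg Subtype.val (mem_cent.1 h)⟩
  · rintro ⟨hx, h⟩
    exact ⟨hx, mem_cent.2 (Subtype.ext h)⟩

theorem coe_mem_PP (y : centralizer ({z} : Set K)) : ((y : K) : G) ∈ PP z := ⟨(y : K), y.2, rfl⟩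

theorem coe_mem_RR {y : centralizer ({z} : Set K)} (hy : y ∈ Q) : ((y : K) : G) ∈ RR Q :=
  ⟨(y : K), ⟨y, hy, rfl⟩, rfl⟩

/-- elements of `N` inducing inner automorphisms -/
theorem mem_of_inner (o : Out K t q z (centralizer ({z} : Set K))) {n : G} (hnt : n * t = t * n)
    (hnz : n * z = z * n)
    (h : K.normalizerMonoidHom ⟨n, o.emb.nor hnt⟩ ∈ (MulAut.conj : K →* MulAut K).range) :
    n ∈ PP z ∨ t * n ∈ PP z := by
  obtain ⟨k, hk⟩ := h
  have h2 := exists_of_conj (o.emb.nor hnt) hk.symm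
  have hkt : (k : G) * t = t * k := o.emb.st.Kt k k.2
  have hkz : (k : G) * z = z * k → (k : G) ∈ PP z := fun e => mem_PP.2 ⟨k.2, e⟩
  have h3 : (k : G)⁻¹ * n ∈ zpowers q := by
    apply o.emb.st.cK
    · have h4 := o.emb.st.Kt (k : G)⁻¹ (K.inv_mem k.2)
      calc (k : G)⁻¹ * n * t = (k : G)⁻¹ * (n * t) := by group
        _ = ((k : G)⁻¹ * t) * n := by rw [hnt]; group
        _ = t * ((k : G)⁻¹ * n) := by rw [h4]; group
    · exact h2
  rcases o.Q2 _ h3 with e | e
  · left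
    have e1 : n = k := (inv_mul_eq_one.1 e).symm
    rw [e1] at hnz ⊢
    exact hkz hnz
  · right
    have e1 : n = k * t := by rw [← e]; group
    have e2 : t * n = k := by rw [e1, hkt, ← mul_assoc, o.emb.st.tt, one_mul]
    rw [e2]
    apply hkz
    rw [← e2, mul_assoc, hnz, ← mul_assoc, o.emb.comm, mul_assoc]

/-- the automorphism of `C_K(z)` induced by an element normalising it -/
theorem exists_beta {g : G} (h1 : ∀ y ∈ PP z, g * y * g⁻¹ ∈ PP z) (h2 : ∀ y ∈ PP z, g⁻¹ * y * g ∈ PP z) :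
    ∃ β : MulAut (centralizer ({z} : Set K)), ∀ y : centralizer ({z} : Set K),
      (((β y : centralizer ({z} : Set K)) : K) : G) = g * ((y : K) : G) * g⁻¹ := by
  have f1 : ∀ y : centralizer ({z} : Set K), g * ((y : K) : G) * g⁻¹ ∈ PP z := fun y => h1 _ (coe_mem_PP y)
  have f2 : ∀ y : centralizer ({z} : Set K), g⁻¹ * ((y : K) : G) * g ∈ PP z := fun y => h2 _ (coe_mem_PP y)
  refine ⟨{ toFun := fun y => ⟨⟨g * ((y : K) : G) * g⁻¹, (Emb.mem_map.1 (f1 y)).1⟩, (Emb.mem_map.1 (f1 y)).2⟩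
            invFun := fun y => ⟨⟨g⁻¹ * ((y : K) : G) * g, (Emb.mem_map.1 (f2 y)).1⟩, (Emb.mem_map.1 (f2 y)).2⟩
            left_inv := ?_
            right_inv := ?_
            map_mul' := ?_ }, fun y => rfl⟩
  · intro y
    apply Subtype.ext
    apply Subtype.ext
    show g⁻¹ * (g * ((y : K) : G) * g⁻¹) * g = ((y : K) : G)
    group
  · intro y
    apply Subtype.ext
    apply Subtype.ext
    show g * (g⁻¹ * ((y : K) : G) * g) * g⁻¹ = ((y : K) : G)
    group
  · intro y w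
    apply Subtype.ext
    apply Subtype.ext
    show g * (((y : K) : G) * ((w : K) : G)) * g⁻¹ = (g * ((y : K) : G) * g⁻¹) * (g * ((w : K) : G) * g⁻¹)
    group

/-- `g` acts on the `v i` as the signed permutation `(σ, s)` -/
def Act (v : Fin 5 → centralizer ({z} : Set K)) (g : G) (σ : Equiv.Perm (Fin 5)) (s : Fin 5 → ZMod 2) : Prop :=
  ∀ i, g * ((v i : K) : G) * g⁻¹ = (((zp (zc z) (s i) * v (σ i) : centralizer ({z} : Set K)) : K) : G)

theorem exists_act_G [Finite G] (D : Dat z u Q v ρ) {g : G} (h1 : ∀ y ∈ PP z, g * y * g⁻¹ ∈ PP z)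
    (h2 : ∀ y ∈ PP z, g⁻¹ * y * g ∈ PP z) : ∃ σ s, Act v g σ s := by
  obtain ⟨β, hβ⟩ := exists_beta h1 h2
  obtain ⟨σ, s, h⟩ := exists_act_C D.M β
  refine ⟨σ, s, fun i => ?_⟩
  rw [← hβ, h]

/-- even elements act on `R` like elements of `P` -/
theorem exists_of_even [Finite G] (D : Dat z u Q v ρ) {g : G} (h1 : ∀ y ∈ PP z, g * y * g⁻¹ ∈ PP z)
    (h2 : ∀ y ∈ PP z, g⁻¹ * y * g ∈ PP z) {σ : Equiv.Perm (Fin 5)} {s : Fin 5 → ZMod 2} (h : Act v g σ s)
    (hσ : Equiv.Perm.sign σ = 1) : ∃ c ∈ PP z, ∀ r ∈ RR Q, g * r * g⁻¹ = c * r * c⁻¹ := by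
  obtain ⟨β, hβ⟩ := exists_beta h1 h2
  obtain ⟨c, hc⟩ := exists_conj_of_even D.M β σ s (fun i => by
    apply Subtype.ext
    apply Subtype.ext
    rw [hβ]; exact h i) hσ
  refine ⟨((c : K) : G), coe_mem_PP c, ?_⟩
  rintro _ ⟨_, ⟨r, hr, rfl⟩, rfl⟩
  show g * ((r : K) : G) * g⁻¹ = _
  rw [← hβ, hc r hr]
  rfl

/-- even elements of `N` -/
theorem mem_of_even [Finite G] (D : Dat z u Q v ρ) (o : Out K t q z (centralizer ({z} : Set K))) {n : G}
    (hnt : n * t = t * n) (hnz : n * z = z * n) {σ : Equiv.Perm (Fin 5)} {s : Fin 5 → ZMod 2}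
    (h : Act v n σ s) (hσ : Equiv.Perm.sign σ = 1) : n ∈ PP z ∨ t * n ∈ PP z := by
  apply mem_of_inner o hnt hnz
  obtain ⟨k, hk⟩ := D.inner_of_even (K.normalizerMonoidHom ⟨n, o.emb.nor hnt⟩) (o.emb.aut_z hnt hnz) σ s
    (fun i => by
      apply Subtype.ext
      rw [nmh_apply]
      exact h i) hσ
  exact ⟨k, hk.symm⟩

theorem act_mul (D : Dat z u Q v ρ) {g g' : G} {σ τ : Equiv.Perm (Fin 5)} {s r : Fin 5 → ZMod 2}
    (hg : Act v g σ s) (hgz : g * z = z * g) (hg' : Act v g' τ r) :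
    Act v (g * g') (σ * τ) (fun i => r i + s (τ i)) := by
  intro i
  have hzp : ∀ a : ZMod 2, g * (((zp (zc z) a : centralizer ({z} : Set K)) : K) : G) * g⁻¹ =
      (((zp (zc z) a : centralizer ({z} : Set K)) : K) : G) := by
    intro a
    rcases zmod2_cases a with h | h
    · rw [h, zp_zero]
      show g * (1 : G) * g⁻¹ = 1
      group
    · rw [h, zp_one]
      show g * (z : G) * g⁻¹ = z
      rw [hgz]; group
  calc g * g' * ((v i : K) : G) * (g * g')⁻¹ = g * (g' * ((v i : K) : G) * g'⁻¹) * g⁻¹ := by group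
    _ = g * ((((zp (zc z) (r i) : centralizer ({z} : Set K)) : K) : G) * ((v (τ i) : K) : G)) * g⁻¹ := by
        rw [hg' i]; rfl
    _ = (g * (((zp (zc z) (r i) : centralizer ({z} : Set K)) : K) : G) * g⁻¹) *
          (g * ((v (τ i) : K) : G) * g⁻¹) := by group
    _ = (((zp (zc z) (r i) * (zp (zc z) (s (τ i)) * v (σ (τ i))) : centralizer ({z} : Set K)) : K) : G) := by
        rw [hzp, hg (τ i)]; rfl
    _ = _ := by rw [← mul_assoc, ← zp_add (zc z) D.M.z_sq]; rfl

/-- elements of `N` centralising `R` -/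
theorem cent_RR [Finite G] (D : Dat z u Q v ρ) (o : Out K t q z (centralizer ({z} : Set K))) {n : G}
    (hnt : n * t = t * n) (hnz : n * z = z * n) (h : ∀ r ∈ RR Q, n * r = r * n) :
    n = 1 ∨ n = z ∨ n = t ∨ n = t * z := by
  have hact : Act v n 1 (fun _ => 0) := by
    intro i
    rw [h _ (coe_mem_RR (D.M.v_mem i)), mul_inv_cancel_right, zp_zero, one_mul]
    rfl
  have key : ∀ m : G, m ∈ PP z → (∀ r ∈ RR Q, m * r = r * m) → m = 1 ∨ m = z := by
    intro m hm hr
    obtain ⟨hmK, hmC⟩ := Emb.mem_map.1 hm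
    rcases Cfsg.Agent.KFacts.QMinus.cent_Q D.M (c := ⟨⟨m, hmK⟩, hmC⟩) (fun i => by
      apply Subtype.ext
      apply Subtype.ext
      exact hr _ (coe_mem_RR (D.M.v_mem i))) with e | e
    · left; exact congrArg (fun y : centralizer ({z} : Set K) => ((y : K) : G)) e
    · right; exact congrArg (fun y : centralizer ({z} : Set K) => ((y : K) : G)) e
  have hRt : ∀ r ∈ RR Q, t * r = r * t := by
    rintro _ ⟨r, -, rfl⟩
    exact (o.emb.st.Kt r r.2).symm
  rcases mem_of_even D o hnt hnz hact (by simp) with h1 | h1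
  · rcases key n h1 h with h2 | h2
    · exact Or.inl h2
    · exact Or.inr (Or.inl h2)
  · right; right
    rcases key _ h1 (fun r hr => by
      rw [mul_assoc, h r hr, ← mul_assoc, hRt r hr, mul_assoc]) with h2 | h2
    · left
      calc n = t * (t * n) := by rw [← mul_assoc, o.emb.st.tt, one_mul]
        _ = t := by rw [h2, mul_one]
    · right
      calc n = t * (t * n) := by rw [← mul_assoc, o.emb.st.tt, one_mul]
        _ = t * z := by rw [h2]

/-- commutators of `N` lie in `P` -/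
theorem comm_mem [Finite G] (D : Dat z u Q v ρ) (o : Out K t q z (centralizer ({z} : Set K))) {a b : G}
    (hat : a * t = t * a) (haz : a * z = z * a) (hbt : b * t = t * b) (hbz : b * z = z * b) :
    a * b * a⁻¹ * b⁻¹ ∈ PP z := by
  have hinv : ∀ {n y : G}, n * y = y * n → n⁻¹ * y = y * n⁻¹ := by
    intro n y h
    rw [inv_mul_eq_iff_eq_mul, ← mul_assoc, h]; group
  have hmul : ∀ {m n y : G}, m * y = y * m → n * y = y * n → m * n * y = y * (m * n) := by
    intro m n y h1 h2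
    rw [mul_assoc, h2, ← mul_assoc, h1, mul_assoc]
  -- `[e, n]` for `e ∈ P ∪ tP`
  have key : ∀ e n : G, e * t = t * e → e * z = z * e → n * t = t * n → n * z = z * n →
      (e ∈ PP z ∨ t * e ∈ PP z) → e * n * e⁻¹ * n⁻¹ ∈ PP z := by
    intro e n het hez hnt hnz he
    have h1 : ∀ p ∈ PP z, p * n * p⁻¹ * n⁻¹ ∈ PP z := by
      intro p hp
      have e1 : p * n * p⁻¹ * n⁻¹ = p * (n * p⁻¹ * n⁻¹) := by group
      rw [e1]
      exact (PP z).mul_mem hp (o.emb.conj_P hnt hnz ((PP z).inv_mem hp))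
    rcases he with h2 | h2
    · exact h1 e h2
    · have h3 := h1 _ h2
      have e2 : t * e * n * (t * e)⁻¹ * n⁻¹ = e * n * e⁻¹ * n⁻¹ := by
        calc t * e * n * (t * e)⁻¹ * n⁻¹ = (t * e) * n * e⁻¹ * (t⁻¹ * n⁻¹) := by group
          _ = (e * t) * n * e⁻¹ * (n⁻¹ * t⁻¹) := by
              rw [het]
              congr 1
              rw [← mul_inv_rev, ← mul_inv_rev, hnt]
          _ = e * (t * (n * e⁻¹ * n⁻¹)) * t⁻¹ := by group
          _ = e * ((n * e⁻¹ * n⁻¹) * t) * t⁻¹ := by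
              rw [hmul (hmul hnt (hinv het)) (hinv hnt)]
          _ = _ := by group
      rw [← e2]; exact h3
  rcases Cfsg.Agent.KFacts.J2.SheetX.index_le D with hi | hi
  · apply key a b hat haz hbt hbz
    apply mem_of_inner o hat haz
    rw [index_eq_one] at hi
    rw [hi]; exact mem_top _
  · by_cases ha : a ∈ PP z ∨ t * a ∈ PP z
    · exact key a b hat haz hbt hbz ha
    · -- `b a⁻¹` or `b` is even
      by_cases hb : b ∈ PP z ∨ t * b ∈ PP z
      · have h1 := key b a hbt hbz hat haz hb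
        have h2 := (PP z).inv_mem h1
        have e : (b * a * b⁻¹ * a⁻¹)⁻¹ = a * b * a⁻¹ * b⁻¹ := by group
        rwa [e] at h2
      · have hct : b * a⁻¹ * t = t * (b * a⁻¹) := hmul hbt (hinv hat)
        have hcz : b * a⁻¹ * z = z * (b * a⁻¹) := hmul hbz (hinv haz)
        have hc : b * a⁻¹ ∈ PP z ∨ t * (b * a⁻¹) ∈ PP z := by
          apply mem_of_inner o hct hcz
          have h1 : K.normalizerMonoidHom ⟨b * a⁻¹, o.emb.nor hct⟩ =
              K.normalizerMonoidHom ⟨b, o.emb.nor hbt⟩ * (K.normalizerMonoidHom ⟨a, o.emb.nor hat⟩)⁻¹ := by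
            rw [← map_inv, ← map_mul]; rfl
          rw [h1, mul_mem_iff_of_index_two hi]
          constructor
          · intro h2
            exact absurd (mem_of_inner o hbt hbz h2) hb
          · intro h2
            exact absurd (mem_of_inner o hat haz (inv_mem_iff.1 h2)) ha
        have h2 := (PP z).inv_mem (key _ a hct hcz hat haz hc)
        have e : (b * a⁻¹ * a * (b * a⁻¹)⁻¹ * a⁻¹)⁻¹ = a * b * a⁻¹ * b⁻¹ := by group
        rwa [e] at h2

/-- **`⟨t, z⟩` normal in `C_G(z)` is impossible** -/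
theorem notMem [Finite G] (D : Dat z u Q v ρ) (o : Out K t q z (centralizer ({z} : Set K))) {F : Subgroup G}
    (X : CaseX.XHyp t (z : G) (PP z) (RR Q) F)
    (hnor : ∀ g : G, g * z = z * g → g * t * g⁻¹ = t ∨ g * t * g⁻¹ = t * z) : False := by
  have hNN : ∀ a, a * t = t * a → a * z = z * a → ∀ b, b * t = t * b → b * z = z * b →
      a * b * a⁻¹ * b⁻¹ ∈ PP z := fun a h1 h2 b h3 h4 => comm_mem D o h1 h2 h3 h4
  have hzP : (z : G) ∈ PP z := mem_PP.2 ⟨z.2, rfl⟩
  obtain ⟨x, -, hxt, hxz0⟩ := o.swap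
  have hxz : x * z = z * x := mul_inv_eq_iff_eq_mul.1 hxz0
  have hxP : ∀ p ∈ PP z, x * p * x⁻¹ ∈ PP z := fun p hp => (o.emb.conj_P_swap hxt hxz0).1 hp
  have hxP' : ∀ p ∈ PP z, x⁻¹ * p * x ∈ PP z := by
    intro p hp
    apply (o.emb.conj_P_swap hxt hxz0).2
    have e : x * (x⁻¹ * p * x) * x⁻¹ = p := by group
    rw [e]; exact hp
  by_cases hin : ∀ n, n * t = t * n → n * z = z * n → n ∈ PP z ∨ t * n ∈ PP z
  · exact X.notMem_commutator hnor hNN hxz hxt (X.hxn_of_inner hxt hzP hxP hin) o.com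
  · push Not at hin
    obtain ⟨s, hst, hsz, hs1, hs2⟩ := hin
    have hsP : ∀ p ∈ PP z, s * p * s⁻¹ ∈ PP z := fun p hp => o.emb.conj_P hst hsz hp
    have hst' : s⁻¹ * t = t * s⁻¹ := by rw [inv_mul_eq_iff_eq_mul, ← mul_assoc, hst]; group
    have hsz' : s⁻¹ * z = z * s⁻¹ := by rw [inv_mul_eq_iff_eq_mul, ← mul_assoc, hsz]; group
    have hsP' : ∀ p ∈ PP z, s⁻¹ * p * s ∈ PP z := by
      intro p hp
      have := o.emb.conj_P hst' hsz' hp
      rwa [inv_inv] at this
    obtain ⟨σ, a, hσ⟩ := exists_act_G D hsP hsP'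
    have hσ1 : Equiv.Perm.sign σ = -1 := by
      refine (Int.units_eq_one_or _).resolve_left fun h1 => ?_
      rcases mem_of_even D o hst hsz hσ h1 with h2 | h2
      · exact hs1 h2
      · exact hs2 h2
    -- an even element `y` with `t ^ y = tz`
    obtain ⟨y, hyz, hyt, hyP, hyP', τ, b, hτ, hτ1⟩ : ∃ y : G, y * z = z * y ∧ y * t * y⁻¹ = t * z ∧
        (∀ p ∈ PP z, y * p * y⁻¹ ∈ PP z) ∧ (∀ p ∈ PP z, y⁻¹ * p * y ∈ PP z) ∧
        ∃ (τ : Equiv.Perm (Fin 5)) (b : Fin 5 → ZMod 2), Act v y τ b ∧ Equiv.Perm.sign τ = 1 := by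
      obtain ⟨τ, b, hτ⟩ := exists_act_G D hxP hxP'
      rcases Int.units_eq_one_or (Equiv.Perm.sign τ) with h1 | h1
      · exact ⟨x, hxz, hxt, hxP, hxP', τ, b, hτ, h1⟩
      · refine ⟨x * s, ?_, ?_, ?_, ?_, τ * σ, _, act_mul D hτ hxz hσ, ?_⟩
        · rw [mul_assoc, hsz, ← mul_assoc, hxz, mul_assoc]
        · calc x * s * t * (x * s)⁻¹ = x * (s * t * s⁻¹) * x⁻¹ := by group
            _ = t * z := by rw [hst, mul_inv_cancel_right, hxt]
        · intro p hp
          have e : x * s * p * (x * s)⁻¹ = x * (s * p * s⁻¹) * x⁻¹ := by group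
          rw [e]; exact hxP _ (hsP _ hp)
        · intro p hp
          have e : (x * s)⁻¹ * p * (x * s) = s⁻¹ * (x⁻¹ * p * x) * s := by group
          rw [e]; exact hsP' _ (hxP' _ hp)
        · rw [Equiv.Perm.sign_mul, h1, hσ1]; decide
    obtain ⟨c, hc, hcr⟩ := exists_of_even D hyP hyP' hτ hτ1
    obtain ⟨hcK, hcz⟩ := mem_PP.1 hc
    have hct : c * t = t * c := o.emb.st.Kt c hcK
    have hct' : c⁻¹ * t = t * c⁻¹ := by rw [inv_mul_eq_iff_eq_mul, ← mul_assoc, hct]; group
    have hcz' : c⁻¹ * z = z * c⁻¹ := by rw [inv_mul_eq_iff_eq_mul, ← mul_assoc, hcz]; group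
    have h1z : c⁻¹ * y * z = z * (c⁻¹ * y) := by
      rw [mul_assoc, hyz, ← mul_assoc, hcz', mul_assoc]
    have h1t : c⁻¹ * y * t * (c⁻¹ * y)⁻¹ = t * z := by
      calc c⁻¹ * y * t * (c⁻¹ * y)⁻¹ = c⁻¹ * (y * t * y⁻¹) * c := by group
        _ = (c⁻¹ * t) * z * c := by rw [hyt]; group
        _ = t * (c⁻¹ * z) * c := by rw [hct']; group
        _ = t * z := by rw [hcz']; group
    have h1R : ∀ r ∈ RR Q, c⁻¹ * y * r = r * (c⁻¹ * y) := by
      intro r hr
      rw [← mul_inv_eq_iff_eq_mul]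
      calc c⁻¹ * y * r * (c⁻¹ * y)⁻¹ = c⁻¹ * (y * r * y⁻¹) * c := by group
        _ = r := by rw [hcr r hr]; group
    exact X.notMem_commutator hnor hNN h1z h1t (X.hxn_of_cent h1z h1t hzP h1R
      (fun n h1 h2 h3 => cent_RR D o h1 h2 h3)) o.com

end

end Cfsg.Agent.OddHalf.D8.JTwo.Small

end

-- merged: Cfsg.Agent.OddHalf.D8.JTwo.Large
section

/-!
# ODD half, D8, row `J₂`: the case `t ∈ O₂(C(z))`, part 2 (helper826)

`not_large`: `O₂(C(z))` is not extraspecial of order `2 ^ 7`, by S1762 and Lagrange (`25` divides `|J₂|`).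
-/

set_option autoImplicit false

namespace Cfsg.Agent.OddHalf.D8.JTwo.Large

open Subgroup Cfsg Cfsg.Agent.OddHalf.D8.MainE

universe u

/-- `25` does not divide the order of `PSL(5, 2)` -/
theorem psl5 {F : Type*} [Field F] [Fintype F] (hF : Fintype.card F = 2) :
    ¬ 25 ∣ Nat.card (Matrix.ProjectiveSpecialLinearGroup (Fin 5) F) := by
  classical
  intro h
  have h1 : Nat.card (Matrix.ProjectiveSpecialLinearGroup (Fin 5) F) ∣
      Nat.card (Matrix.SpecialLinearGroup (Fin 5) F) := by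
    exact Subgroup.card_quotient_dvd_card _
  have h2 : Nat.card (Matrix.SpecialLinearGroup (Fin 5) F) ∣ Nat.card (GL (Fin 5) F) := by
    have hinj : Function.Injective (Matrix.SpecialLinearGroup.toGL : Matrix.SpecialLinearGroup (Fin 5) F →* GL (Fin 5) F) :=
      Matrix.SpecialLinearGroup.toGL_injective
    exact Subgroup.card_dvd_of_injective _ hinj
  have h3 := (h.trans h1).trans h2
  rw [Matrix.card_GL_field, hF] at h3
  simp only [Fin.prod_univ_succ, Fin.prod_univ_zero] at h3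
  norm_num at h3

/-- S1762 (without the hypothesis on symplectic type) -/
def H1762 : Prop :=
  ∀ (G : Type u) [Group G] [Finite G] [IsSimpleGroup G], ¬ IsMulCommutative G → ∀ z : G, orderOf z = 2 →
    IsExtraspecial 2 ↥(generalizedFittingSubgroup ↥(centralizer ({z} : Set G))) →
    Nat.card ↥(generalizedFittingSubgroup ↥(centralizer ({z} : Set G))) = 2 ^ 7 →
    (∃ (F : Type) (_ : Field F) (_ : Fintype F), Fintype.card F = 2 ∧ Nonempty (G ≃* Matrix.ProjectiveSpecialLinearGroup (Fin 5) F)) ∨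
      (∃ (F : Type) (_ : Field F) (_ : Fintype F), Fintype.card F = 4 ∧ Nonempty (G ≃* Cfsg.PSU 5 F 2)) ∨
      Cfsg.Spor.IsoM24 G ∨ Cfsg.Spor.IsoHe G ∨ Cfsg.Spor.IsoSuz G

/-- **S1762 does not apply** -/
theorem not_large (h1762 : H1762.{u}) {G : Type u} [Group G] (C : Iface.Ctx G) {z : G} (hz : orderOf z = 2)
    (hself : centralizer (pCore 2 ↥(centralizer ({z} : Set G)) : Set ↥(centralizer ({z} : Set G))) ≤
      pCore 2 ↥(centralizer ({z} : Set G)))
    (hex : IsExtraspecial 2 ↥((pCore 2 ↥(centralizer ({z} : Set G))).map (centralizer ({z} : Set G)).subtype))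
    (hcard : Nat.card ↥((pCore 2 ↥(centralizer ({z} : Set G))).map (centralizer ({z} : Set G)).subtype) = 2 ^ 7)
    (h25 : 25 ∣ Nat.card G) : False := by
  have hfin := C.fin
  have hsimp := C.simple
  have : Fact (Nat.Prime 2) := ⟨Nat.prime_two⟩
  have hF : generalizedFittingSubgroup ↥(centralizer ({z} : Set G)) = pCore 2 ↥(centralizer ({z} : Set G)) :=
    Cfsg.Agent.SignalizersComponents.CharP.genFitting_eq_pCore_iff.2 hself
  have e : ↥((pCore 2 ↥(centralizer ({z} : Set G))).map (centralizer ({z} : Set G)).subtype) ≃*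
      ↥(pCore 2 ↥(centralizer ({z} : Set G))) :=
    ((pCore 2 ↥(centralizer ({z} : Set G))).equivMapOfInjective _ (subtype_injective _)).symm
  have hE : IsExtraspecial 2 ↥(generalizedFittingSubgroup ↥(centralizer ({z} : Set G))) := by
    rw [hF]
    exact Cfsg.Agent.J2.ExtQuot.isExtraspecial_of_equiv e hex
  have hc : Nat.card ↥(generalizedFittingSubgroup ↥(centralizer ({z} : Set G))) = 2 ^ 7 := by
    rw [hF, ← hcard]
    exact (Nat.card_congr e.toEquiv).symm
  rcases h1762 G C.na z hz hE hc with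
    ⟨F, _, _, hF2, ⟨f⟩⟩ | ⟨F, _, _, hF4, ⟨f⟩⟩ | ⟨⟨f⟩⟩ | h | h
  · rw [Nat.card_congr f.toEquiv] at h25
    exact psl5 hF2 h25
  · rw [Nat.card_congr f.toEquiv, Cfsg.Agent.SylowU5.Iso.card_PSU hF4] at h25
    norm_num at h25
  · have h1 : Nat.card G = 244823040 := by
      rw [Nat.card_congr f.toEquiv]
      exact Cfsg.Agent.S0364.result
    rw [h1] at h25
    norm_num at h25
  · exact C.nc (by unfold Iface.Concl Small.Excl.Concl; tauto)
  · exact C.nc (by unfold Iface.Concl Small.Excl.Concl; tauto)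

end Cfsg.Agent.OddHalf.D8.JTwo.Large

end
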