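import Cfsg.Agent.OddHalf.CaseM.End
import Cfsg.Agent.OddHalf.D8.JTwo.Sheet
import Cfsg.Agent.KFacts.J2.SheetX
import Cfsg.Agent.KFacts.QMinusNormal

-- merged: Cfsg.Agent.OddHalf.D8.JTwo.CaseM
section

/-!
# Case (M) of D8 without the `y`-trick (helper206; the proofs are helper271's, `OddHalf/CaseM/`)

`noCompX`: `C_G(z)` has no component if `K` has the sheets `SheetX z P R` and `SheetM P R`.
-/

set_option autoImplicit false

namespace Cfsg.Agent.OddHalf.D8.JTwo.CaseM

open Subgroup Cfsg
open Cfsg.Agent.OddHalf.Iface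
open Cfsg.Agent.OddHalf.Front.FE Cfsg.Agent.OddHalf.D8.Sheet Cfsg.Agent.OddHalf.D8.GlueE
open Cfsg.Agent.OddHalf.D8.Front Cfsg.Agent.OddHalf.D8.JTwo.Sheet
open Cfsg.Agent.OddHalf.CaseM
open Cfsg.Agent.Cit (cj mem_cj conj_mem_cj conj_mem_cj_iff)
open Cfsg.Agent.SignalizersComponents.Components
open Cfsg.Agent.Schreier.Basic

open scoped commutatorElement

universe u

section KLevel

variable {K : Type*} [Group K] {z : K} {P R : Subgroup K}

/-- `α(R) ≤ R` for automorphisms fixing `z` -/
theorem map_R (h : SheetX z P R) (α : MulAut K) (hα : α z = z) {x : K} (hx : x ∈ R) : α x ∈ R := by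
  have hP : ∀ x ∈ P, α x ∈ P := fun x hx => map_P h.perf h.cen h.der α hα hx
  have hα' : α⁻¹ z = z := by
    calc α⁻¹ z = α⁻¹ (α z) := by rw [hα]
      _ = z := MulAut.inv_apply_self _ _ _
  have hP' : ∀ x ∈ P, α⁻¹ x ∈ P := fun x hx => map_P h.perf h.cen h.der α⁻¹ hα' hx
  have h1 : R.map α.toMonoidHom ≤ R := by
    apply h.Rmax
    · rintro _ ⟨r, hr, rfl⟩
      exact hP r (h.RP hr)
    · exact h.R2.map _
    · rintro x hx _ ⟨r, hr, rfl⟩
      refine ⟨α⁻¹ x * r * (α⁻¹ x)⁻¹, h.Rn _ (hP' x hx) r hr, ?_⟩
      change α (α⁻¹ x * r * (α⁻¹ x)⁻¹) = x * α r * x⁻¹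
      rw [map_mul, map_mul, map_inv, MulAut.apply_inv_self]
  exact h1 ⟨x, hx, rfl⟩

/-- `⁅R, R⁆ ≤ ⟨z⟩` -/
theorem comm_R [Finite K] (h : SheetX z P R) : ∀ x ∈ ⁅R, R⁆, x = 1 ∨ x = z := by
  have : Fact (Nat.Prime 2) := ⟨Nat.prime_two⟩
  have hle : ⁅R, R⁆ ≤ R := commutator_le_self R
  have hn : ∀ x ∈ P, ∀ b ∈ ⁅R, R⁆, x * b * x⁻¹ ∈ ⁅R, R⁆ := by
    intro x hx b hb
    have h1 : R.map (MulAut.conj x).toMonoidHom = R := by
      apply le_antisymm
      · rintro _ ⟨r, hr, rfl⟩
        exact h.Rn x hx r hr
      · intro r hr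
        refine ⟨x⁻¹ * r * x⁻¹⁻¹, h.Rn _ (P.inv_mem hx) r hr, ?_⟩
        change x * (x⁻¹ * r * x⁻¹⁻¹) * x⁻¹ = r
        group
    have h2 : (⁅R, R⁆ : Subgroup K).map (MulAut.conj x).toMonoidHom = ⁅R, R⁆ := by
      rw [map_commutator, h1]
    rw [← h2]
    exact ⟨b, hb, rfl⟩
  rcases h.Rmin _ hle hn with h1 | h1
  · exact h1
  · exfalso
    -- a perfect 2-group
    have hnil : Group.IsNilpotent R := h.R2.isNilpotent
    have hsol : Group.IsSolvable R := inferInstance
    have h3 : commutator R = ⊤ := by
      rw [_root_.commutator_def]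
      apply map_injective R.subtype_injective
      rw [map_commutator, ← MonoidHom.range_eq_map, range_subtype, h1]
    have h4 : ∀ n : ℕ, derivedSeries R n = ⊤ := by
      intro n
      induction n with
      | zero => rfl
      | succ n ih => rw [derivedSeries_succ, ih, ← _root_.commutator_def, h3]
    obtain ⟨n, hn⟩ := hsol.solvable
    rw [h4 n] at hn
    have h5 : (⟨z, h.zR⟩ : R) ∈ (⊥ : Subgroup R) := by rw [← hn]; exact mem_top _
    exact h.z1 (congrArg Subtype.val (mem_bot.1 h5))

theorem z_mem_comm [Finite K] (h : SheetX z P R) : z ∈ ⁅R, R⁆ := by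
  obtain ⟨a, ha, b, hb, hab⟩ := h.Rna
  have h1 : ⁅a, b⁆ ∈ ⁅R, R⁆ := commutator_mem_commutator ha hb
  rcases comm_R h _ h1 with h2 | h2
  · exact absurd (commutatorElement_eq_one_iff_mul_comm.1 h2) hab
  · rwa [h2] at h1

/-- the core facts -/
theorem core [Finite K] (h : SheetX z P R) (m : SheetM P R) :
    Core (⟨z, h.zP⟩ : P) (R.subgroupOf P) := by
  have hmapR : (R.subgroupOf P).map P.subtype = R := by
    rw [subgroupOf_map_subtype, inf_of_le_left h.RP]
  have hinj : Function.Injective (Subgroup.map P.subtype) := map_injective P.subtype_injective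
  constructor
  · intro S hS hp hne
    have h1 := m.big (S.map P.subtype) (map_subtype_le _) (by
      have : (S.map P.subtype).subgroupOf P = S := comap_map_eq_self_of_injective P.subtype_injective S
      rw [this]; exact hS) (by rw [← map_commutator, hp]) (by
      intro h0
      apply hne
      apply hinj
      rw [h0, Subgroup.map_bot])
    apply hinj
    rw [map_commutator, hmapR, h1]
  · obtain ⟨w, hw, hidx⟩ := m.idx
    have hcardR : Nat.card (R.subgroupOf P) ≤ 2 ^ (2 * w + 1) := by
      rw [Nat.card_congr (subgroupOfEquivOfLe h.RP).toEquiv]; exact hw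
    obtain ⟨a, ha, b, hb, hab⟩ := h.Rna
    refine prim_of (w := w) (fun q => Subtype.ext (h.cen q q.2)) (Subtype.ext h.zz)
      (fun h0 => h.z1 (congrArg Subtype.val h0)) h.zR ⟨fun r hr g => h.Rn g g.2 r hr⟩ ?_ ?_
      ⟨⟨a, h.RP ha⟩, ha, ⟨b, h.RP hb⟩, hb, fun h0 => hab (congrArg Subtype.val h0)⟩ hcardR ?_
    · intro x hx y hy
      have h1 : ⁅(x : K), (y : K)⁆ ∈ ⁅R, R⁆ := commutator_mem_commutator hx hy
      rcases comm_R h _ h1 with h2 | h2
      · exact Or.inl (Subtype.ext h2)
      · exact Or.inr (Subtype.ext h2)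
    · intro B hB hBn
      rcases h.Rmin (B.map P.subtype) (by
          rintro _ ⟨x, hx, rfl⟩
          exact hB hx) (by
          rintro x hx _ ⟨b, hb, rfl⟩
          exact ⟨⟨x, hx⟩ * b * ⟨x, hx⟩⁻¹, hBn.conj_mem b hb ⟨x, hx⟩, rfl⟩) with h1 | h1
      · left
        intro b hb
        rcases h1 b ⟨b, hb, rfl⟩ with h2 | h2
        · exact Or.inl (Subtype.ext h2)
        · exact Or.inr (Subtype.ext h2)
      · right
        apply hinj
        rw [h1, hmapR]
    · intro H hH
      have h1 := hidx (H.map P.subtype) (map_subtype_le _) (by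
        have : (H.map P.subtype).relIndex P = H.index := by
          rw [relIndex, show (H.map P.subtype).subgroupOf P = H from
            comap_map_eq_self_of_injective P.subtype_injective H]
        rw [this]; exact hH)
      apply hinj
      rw [h1, ← MonoidHom.range_eq_map, range_subtype]

/-- `(big)` for `P/R` quasisimple -/
theorem big_of_quasisimple [Finite K] (h : SheetX z P R)
    (hq : ∀ N : Subgroup K, N ≤ P → R ≤ N → (∀ p ∈ P, ∀ n ∈ N, p * n * p⁻¹ ∈ N) → ⁅N, P⁆ ≤ R ∨ N = P) :
    ∀ S : Subgroup K, S ≤ P → (S.subgroupOf P).IsSubnormal → ⁅S, S⁆ = S → S ≠ ⊥ → ⁅R, S⁆ = R := by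
  intro S hSP hS hp hne
  have hmapR : (R.subgroupOf P).map P.subtype = R := by
    rw [subgroupOf_map_subtype, inf_of_le_left h.RP]
  have hmapS : (S.subgroupOf P).map P.subtype = S := by
    rw [subgroupOf_map_subtype, inf_of_le_left hSP]
  have hinj : Function.Injective (Subgroup.map P.subtype) := map_injective P.subtype_injective
  -- `S` is not contained in `R`
  have hSR : ¬ S ≤ R := fun hSR => hne (eq_bot_of_perfect_two hp (h.R2.to_le hSR))
  -- `S R = P`
  have htop : S.subgroupOf P ⊔ R.subgroupOf P = ⊤ := by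
    have hRn : (R.subgroupOf P).Normal := ⟨fun r hr g => h.Rn g g.2 r hr⟩
    apply sup_eq_top hRn
    · intro N hRN hN
      rcases hq (N.map P.subtype) (map_subtype_le _) (by
          rw [← hmapR]; exact map_mono hRN) (by
          rintro x hx _ ⟨b, hb, rfl⟩
          exact ⟨⟨x, hx⟩ * b * ⟨x, hx⟩⁻¹, hN.conj_mem b hb ⟨x, hx⟩, rfl⟩) with h1 | h1
      · left
        rw [← map_le_map_iff_of_injective P.subtype_injective, map_commutator, hmapR,
          ← MonoidHom.range_eq_map, range_subtype]
        exact h1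
      · right
        apply hinj
        rw [h1, ← MonoidHom.range_eq_map, range_subtype]
    · apply hinj
      rw [map_commutator, hmapS, hp]
    · intro hle
      apply hSR
      have := map_mono (f := P.subtype) hle
      rwa [hmapS, hmapR] at this
    · exact hS
  have htop' : S ⊔ R = P := by
    have := congrArg (Subgroup.map P.subtype) htop
    rwa [Subgroup.map_sup, hmapS, hmapR, ← MonoidHom.range_eq_map, range_subtype] at this
  have hnorm : ∀ p ∈ P, ∀ n ∈ ⁅R, S⁆, p * n * p⁻¹ ∈ ⁅R, S⁆ := by
    have h1 : P ≤ normalizer (((⁅R, S⁆ : Subgroup K)) : Set K) := by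
      calc P = S ⊔ R := htop'.symm
        _ ≤ _ := sup_le (Cfsg.Agent.Lib.CoprimeCommutator.right_le_normalizer_commutator R S)
            (Cfsg.Agent.Lib.CoprimeCommutator.left_le_normalizer_commutator R S)
    intro p hp n hn
    exact (mem_normalizer_iff.1 (h1 hp) n).1 hn
  have hle : ⁅R, S⁆ ≤ R := by
    rw [commutator_le]
    intro r hr x hx
    have e : ⁅r, x⁆ = r * (x * r⁻¹ * x⁻¹) := by rw [commutatorElement_def]; group
    rw [e]
    exact R.mul_mem hr (h.Rn x (hSP hx) _ (R.inv_mem hr))
  rcases h.Rmin _ hle hnorm with h1 | h1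
  swap
  · exact h1
  exfalso
  apply hSR
  have h2 : ⁅⁅R, S⁆, S⁆ = ⊥ := by
    rw [commutator_eq_bot_iff_le_centralizer]
    intro u hu
    rw [mem_centralizer_iff]
    intro p hp
    rcases h1 u hu with h3 | h3
    · rw [h3, mul_one, one_mul]
    · rw [h3]; exact h.cen p (hSP hp)
  have h3 : ⁅⁅S, S⁆, R⁆ = ⊥ := commutator_commutator_eq_bot_of_rotate (by rw [commutator_comm S R]; exact h2) h2
  rw [hp] at h3
  intro x hx
  apply h.cR x (hSP hx)
  intro r hr
  have h5 := (commutator_eq_bot_iff_le_centralizer.1 h3) hx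
  rw [mem_centralizer_iff] at h5
  exact (h5 r hr).symm

/-- `(odd)`: the indices `|Aut K : Inn K|` and `|C_K(z) : P|` are powers of 2 -/
theorem odd_of_index [Finite K] (h : SheetX z P R)
    (hout : ∃ n, (MulAut.conj : K →* MulAut K).range.index = 2 ^ n)
    (hP : ∃ n, P.relIndex (centralizer ({z} : Set K)) = 2 ^ n) :
    ∀ α : MulAut K, Odd (orderOf α) → (∀ x ∈ P, α x = x) → α = 1 := by
  intro α hodd hα
  obtain ⟨n, hn⟩ := hout
  obtain ⟨m, hm⟩ := hP
  have hnorm : ((MulAut.conj : K →* MulAut K).range).Normal := by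
    constructor
    rintro _ ⟨k, rfl⟩ φ
    refine ⟨φ k, ?_⟩
    apply MulEquiv.ext
    intro x
    rw [MulAut.mul_apply, MulAut.mul_apply, MulAut.conj_apply, MulAut.conj_apply, map_mul, map_mul, map_inv,
      MulAut.apply_inv_self]
  -- `α` is inner
  have h1 : α ^ (2 ^ n) ∈ (MulAut.conj : K →* MulAut K).range := by
    rw [← hn]; exact pow_index_mem _ _
  have hcop : ∀ k : ℕ, (orderOf α).Coprime (2 ^ k) := fun k =>
    Nat.Coprime.pow_right k ((Nat.coprime_two_right).2 hodd)
  obtain ⟨j, hj⟩ := exists_pow_eq_self_of_coprime (hcop n).symm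
  have h2 : α ∈ (MulAut.conj : K →* MulAut K).range := by
    rw [← hj]; exact pow_mem h1 j
  obtain ⟨k, rfl⟩ := h2
  have hkP : ∀ x ∈ P, k * x = x * k := by
    intro x hx
    have := hα x hx
    rw [MulAut.conj_apply, mul_inv_eq_iff_eq_mul] at this
    exact this
  have hkz : k ∈ centralizer ({z} : Set K) := mem_centralizer_singleton_iff.2 (hkP z h.zP)
  have hPn : (P.subgroupOf (centralizer ({z} : Set K))).Normal := by
    constructor
    intro x hx g
    have hg := mem_centralizer_singleton_iff.1 g.2
    have := map_P h.perf h.cen h.der (MulAut.conj (g : K)) (by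
      rw [MulAut.conj_apply, hg]; group) (mem_subgroupOf.1 hx)
    exact mem_subgroupOf.2 this
  have h3 : k ^ (2 ^ m) ∈ P := by
    have := pow_index_mem (P.subgroupOf (centralizer ({z} : Set K))) ⟨k, hkz⟩
    rw [← relIndex, hm] at this
    exact this
  have h4 : k ^ (2 ^ m) ∈ R := by
    apply h.cR _ h3
    intro r hr
    have hc : Commute k r := hkP r (h.RP hr)
    exact (hc.pow_left _).eq
  obtain ⟨l, hl⟩ := h.R2 ⟨_, h4⟩
  have h5 : k ^ (2 ^ (m + l)) = 1 := by
    rw [pow_add, pow_mul]
    exact congrArg Subtype.val hl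
  have h6 : (MulAut.conj k) ^ (2 ^ (m + l)) = 1 := by rw [← map_pow, h5, map_one]
  have h7 := orderOf_dvd_of_pow_eq_one h6
  have h8 : orderOf (MulAut.conj k) = 1 := Nat.eq_one_of_dvd_coprimes (hcop (m + l)) dvd_rfl h7
  exact orderOf_eq_one_iff.1 h8

end KLevel

variable {G : Type u} [Group G]

section

variable {K : Subgroup G} {t q : G} {z : K} {P R : Subgroup K}

/-- 2-elements of `N` trivial on `P/R` -/
theorem mem_of_trivial [Finite G] (hE : Emb K t q z P) (sh : SheetX z P R) {x : G} (hx2 : IsPGroup 2 (zpowers x))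
    (hxt : x * t = t * x) (hxz : x * z = z * x)
    (hx : ∀ p ∈ P.map K.subtype, p⁻¹ * (x * p * x⁻¹) ∈ R.map K.subtype) :
    ∃ r ∈ R.map K.subtype, r⁻¹ * x ∈ zpowers q := by
  obtain ⟨r, hr, e⟩ := sh.aut (K.normalizerMonoidHom ⟨x, hE.nor hxt⟩)
    (isPGroup_nmh (hE.nor hxt) hx2) (hE.aut_z hxt hxz) (by
    intro p hp
    have h1 := hx p ⟨p, hp, rfl⟩
    obtain ⟨h2, h3⟩ := Emb.mem_map.1 h1
    convert h3 using 1
    apply Subtype.ext
    rw [Subgroup.coe_mul, nmh_apply]
    rfl)
  refine ⟨r, ⟨r, hr, rfl⟩, ?_⟩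
  apply hE.st.cK
  · have h4 := hE.st.Kt (r : G)⁻¹ (K.inv_mem r.2)
    calc (r : G)⁻¹ * x * t = (r : G)⁻¹ * (x * t) := by group
      _ = ((r : G)⁻¹ * t) * x := by rw [hxt]; group
      _ = t * ((r : G)⁻¹ * x) := by rw [h4]; group
  · exact exists_of_conj (hE.nor hxt) e

/-- `N` normalises `R` -/
theorem conj_R (h : Emb K t q z P) (sh : SheetX z P R) {g : G} (hg : g * t = t * g)
    (hgz : g * z = z * g) {x : G} (hx : x ∈ R.map K.subtype) : g * x * g⁻¹ ∈ R.map K.subtype := by
  obtain ⟨hxK, hxP⟩ := Emb.mem_map.1 hx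
  have h1 := map_R sh (K.normalizerMonoidHom ⟨g, h.nor hg⟩) (h.aut_z hg hgz) hxP
  refine Emb.mem_map.2 ⟨?_, ?_⟩
  · exact (mem_normalizer_iff.1 (h.nor hg) x).1 hxK
  · convert h1 using 1
    exact Subtype.ext (nmh_apply (h.nor hg) ⟨x, hxK⟩).symm

/-- an element of odd order of `C(t) ∩ C(z)` which centralises `R` is trivial -/
theorem odd_eq_one [Finite G] (h : Emb K t q z P) (sh : SheetX z P R) (m : SheetM P R) {y : G}
    (hyt : y * t = t * y) (hyz : y * z = z * y) (hodd : Odd (orderOf y))
    (hyR : ∀ r ∈ R.map K.subtype, y * r = r * y) : y = 1 := by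
  -- `y` centralises `P`
  have hyP : ∀ p ∈ P.map K.subtype, y * p = p * y := by
    rintro _ ⟨p, hp, rfl⟩
    set α : MulAut K := K.normalizerMonoidHom ⟨y, h.nor hyt⟩ with hα
    have hαz : α z = z := h.aut_z hyt hyz
    have hαR : ∀ r ∈ R, α r = r := by
      intro r hr
      apply Subtype.ext
      rw [hα, nmh_apply, hyR r ⟨r, hr, rfl⟩, mul_inv_cancel_right]
    have hαP : ∀ p ∈ P, α p ∈ P := fun p hp => map_P sh.perf sh.cen sh.der α hαz hp
    set r : K := p⁻¹ * α p with hr
    have hrR : r ∈ R := by
      apply sh.cR _ (P.mul_mem (P.inv_mem hp) (hαP p hp))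
      intro s hs
      have h1 : α p * s * (α p)⁻¹ = p * s * p⁻¹ := by
        have h2 : α (p * s * p⁻¹) = p * s * p⁻¹ := hαR _ (sh.Rn p hp s hs)
        rw [map_mul, map_mul, map_inv, hαR s hs] at h2
        exact h2
      calc p⁻¹ * α p * s = p⁻¹ * (α p * s * (α p)⁻¹) * α p := by group
        _ = p⁻¹ * (p * s * p⁻¹) * α p := by rw [h1]
        _ = s * (p⁻¹ * α p) := by group
    -- iterate
    have hit : ∀ n : ℕ, (α ^ n) p = p * r ^ n := by
      intro n
      induction n with
      | zero => simp
      | succ n ih =>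
        rw [pow_succ', MulAut.mul_apply, ih, map_mul, map_pow, hαR r hrR]
        have : α p = p * r := by rw [hr]; group
        rw [this, pow_succ']; group
    have hord : orderOf α ∣ orderOf y := by
      have h1 : orderOf (⟨y, h.nor hyt⟩ : normalizer (K : Set G)) = orderOf y :=
        Subgroup.orderOf_mk y _
      rw [← h1]
      exact orderOf_map_dvd _ _
    have h2 := hit (orderOf α)
    rw [pow_orderOf_eq_one] at h2
    have h3 : r ^ (orderOf α) = 1 := by
      have : p = p * r ^ orderOf α := h2
      exact (mul_eq_left.1 this.symm)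
    obtain ⟨k, hk⟩ := sh.R2 ⟨r, hrR⟩
    have h4 : r ^ (2 ^ k) = 1 := congrArg Subtype.val hk
    have h5 : r = 1 := by
      have h6 : orderOf r ∣ 2 ^ k := orderOf_dvd_of_pow_eq_one h4
      have h7 : orderOf r ∣ orderOf y := (orderOf_dvd_of_pow_eq_one h3).trans hord
      have h8 : (2 ^ k).Coprime (orderOf y) := Nat.Coprime.pow_left k ((Nat.coprime_two_left).2 hodd)
      have h9 : orderOf r = 1 := Nat.eq_one_of_dvd_coprimes h8 h6 h7
      exact orderOf_eq_one_iff.1 h9
    have h6 : α p = p := by
      have : α p = p * r := by rw [hr]; group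
      rw [this, h5, mul_one]
    have h7 := congrArg Subtype.val h6
    rw [hα, nmh_apply, mul_inv_eq_iff_eq_mul] at h7
    exact h7
  -- the automorphism of `K` is trivial
  have h1 : K.normalizerMonoidHom ⟨y, h.nor hyt⟩ = 1 := by
    apply m.odd
    · have h2 : orderOf (⟨y, h.nor hyt⟩ : normalizer (K : Set G)) = orderOf y := Subgroup.orderOf_mk y _
      have h3 : orderOf (K.normalizerMonoidHom ⟨y, h.nor hyt⟩) ∣ orderOf y := by
        rw [← h2]
        exact orderOf_map_dvd _ _
      exact hodd.of_dvd_nat h3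
    · intro x hx
      apply Subtype.ext
      rw [nmh_apply, hyP x ⟨x, hx, rfl⟩, mul_inv_cancel_right]
  have h2 : y ∈ zpowers q := by
    apply h.st.cK y hyt
    intro x hx
    have h3 := congrArg (fun f : MulAut K => ((f ⟨x, hx⟩ : K) : G)) h1
    simp only [nmh_apply (h.nor hyt), MulAut.one_apply] at h3
    rw [mul_inv_eq_iff_eq_mul] at h3
    exact h3.symm
  -- a 2-element of odd order
  obtain ⟨k, hk⟩ := h.st.pQ ⟨y, h2⟩
  have h4 : y ^ (2 ^ k) = 1 := congrArg Subtype.val hk
  have h6 : orderOf y ∣ 2 ^ k := orderOf_dvd_of_pow_eq_one h4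
  have h8 : (2 ^ k).Coprime (orderOf y) := Nat.Coprime.pow_left k ((Nat.coprime_two_left).2 hodd)
  exact orderOf_eq_one_iff.1 (Nat.eq_one_of_dvd_coprimes h8 h6 dvd_rfl)

theorem res' [Finite G] (h : Emb K t q z P) (sh : SheetX z P R)
    {S : Subgroup ↥(centralizer ({(z : G)} : Set G))} (hSt : ∀ x ∈ S, (x : G) * t = t * x)
    (hp : ⁅S, S⁆ = S) : S ≤ toX z P := by
  obtain ⟨n, hn⟩ := h.dser_eq
  have h1 : S.map (centralizer ({(z : G)} : Set G)).subtype ≤ centralizer ({t} : Set G) ⊓ centralizer ({(z : G)} : Set G) := by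
    rintro _ ⟨x, hx, rfl⟩
    exact ⟨mem_centralizer_singleton_iff.2 (hSt x hx), x.2⟩
  have h2 := TR.dser_mono n h1
  have hp' : ⁅S.map (centralizer ({(z : G)} : Set G)).subtype, S.map (centralizer ({(z : G)} : Set G)).subtype⁆ =
      S.map (centralizer ({(z : G)} : Set G)).subtype := by rw [← map_commutator, hp]
  rw [TR.dser_of_perfect n hp', hn] at h2
  intro x hx
  exact h2 ⟨x, hx, rfl⟩

theorem core' [Finite G] (sh : SheetX z P R) (m : SheetM P R)
    (hz : (⟨z, mem_centralizer_singleton_iff.2 rfl⟩ : ↥(centralizer ({(z : G)} : Set G))) ∈ toX z P) :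
    Core (⟨_, hz⟩ : toX z P) ((toX z R).subgroupOf (toX z P)) := by
  refine (core sh m).of_equiv (eP z P sh.cen) ?_ ?_
  · exact Subtype.ext (Subtype.ext rfl)
  · ext x
    rw [mem_subgroupOf, mem_toX, Emb.mem_map]
    constructor
    · rintro ⟨y, hy, rfl⟩
      exact ⟨(y : K).2, mem_subgroupOf.1 hy⟩
    · rintro ⟨h1, h2⟩
      refine ⟨⟨⟨_, h1⟩, sh.RP h2⟩, mem_subgroupOf.2 h2, ?_⟩
      exact Subtype.ext (Subtype.ext rfl)

/-- the hypotheses of `CaseM.Hyp` -/
theorem hyp [Finite G] (o : Out K t q z P) (sh : SheetX z P R) (m : SheetM P R) :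
    Hyp (X := ↥(centralizer ({(z : G)} : Set G)))
      ⟨z, mem_centralizer_singleton_iff.2 rfl⟩ ⟨t, mem_centralizer_singleton_iff.2 o.emb.comm⟩
      (toX z R) (toX z P) := by
  have h := o.emb
  have : Fact (Nat.Prime 2) := ⟨Nat.prime_two⟩
  set H : Subgroup G := centralizer ({(z : G)} : Set G) with hH
  have hmemH : ∀ x, x ∈ H ↔ x * z = z * x := fun x => mem_centralizer_singleton_iff
  have hPz : ∀ x ∈ P, x * z = z * x := sh.cen
  have hRz : ∀ x ∈ R, x * z = z * x := fun x hx => sh.cen x (sh.RP hx)
  have hPt : ∀ x ∈ P.map K.subtype, x * t = t * x := by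
    rintro _ ⟨x, -, rfl⟩
    exact h.st.Kt x x.2
  have hinj : Function.Injective (Subgroup.map H.subtype) := map_injective H.subtype_injective
  have hmP : (toX z P).map H.subtype = P.map K.subtype := map_toX hPz
  have hmR : (toX z R).map H.subtype = R.map K.subtype := map_toX hRz
  set t' : H := ⟨t, mem_centralizer_singleton_iff.2 o.emb.comm⟩ with ht'
  set z' : H := ⟨z, mem_centralizer_singleton_iff.2 rfl⟩ with hz'
  have hzc : ∀ x : H, x * z' = z' * x := fun x => Subtype.ext ((hmemH x).1 x.2)
  have hct : ∀ x : H, x * t' = t' * x ↔ (x : G) * t = t * x := fun x =>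
    ⟨fun e => congrArg Subtype.val e, fun e => Subtype.ext e⟩
  have hz2 : (z : G) * z = 1 := h.zz
  -- `t` does not lie in `K`
  have htz : t' ≠ z' := by
    intro e
    apply h.tK
    have : t = z := congrArg Subtype.val e
    rw [this]; exact z.2
  have hR2 : IsPGroup 2 (toX z R) := by
    have h1 : IsPGroup 2 (R.map K.subtype) := sh.R2.map _
    exact h1.comap_of_injective H.subtype H.subtype_injective
  have hRn : ∀ x : H, x * t' = t' * x → ∀ r ∈ toX z R, x * r * x⁻¹ ∈ toX z R := by
    intro x hx r hr
    exact conj_R h sh ((hct x).1 hx) ((hmemH x).1 x.2) hr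
  -- elements of `C(t)` trivial on `R`
  have hcR : ∀ x : H, x * t' = t' * x → (∀ r ∈ toX z R, x * r = r * x) →
      x = 1 ∨ x = z' ∨ x = t' ∨ x = t' * z' := by
    intro x hx hxR
    have hxt := (hct x).1 hx
    have hxz := (hmemH x).1 x.2
    have hxR' : ∀ r ∈ R.map K.subtype, (x : G) * r = r * x := by
      intro r hr
      have hrH : r ∈ H := map_le_cent hRz hr
      exact congrArg Subtype.val (hxR ⟨r, hrH⟩ hr)
    -- `x` is a 2-element
    obtain ⟨k, l, hl, hkl⟩ := Nat.exists_eq_two_pow_mul_odd (orderOf_pos (x : G)).ne'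
    have h1 : (x : G) ^ (2 ^ k) = 1 := by
      apply odd_eq_one h sh m
      · exact ((show Commute (x : G) t from hxt).pow_left _).eq
      · exact ((show Commute (x : G) z from hxz).pow_left _).eq
      · rw [orderOf_pow, hkl, Nat.gcd_mul_right_left, Nat.mul_div_cancel_left _ (pow_pos two_pos k)]
        exact hl
      · intro r hr
        exact ((show Commute (x : G) r from hxR' r hr).pow_left _).eq
    have hx2 : IsPGroup 2 (zpowers (x : G)) := by
      obtain ⟨j, -, hj⟩ := (Nat.dvd_prime_pow Nat.prime_two).1 (orderOf_dvd_of_pow_eq_one h1)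
      exact IsPGroup.of_card (by rw [Nat.card_zpowers, hj])
    obtain ⟨r, hr, hrx⟩ := mem_of_trivial h sh hx2 hxt hxz (by
      -- `p⁻¹ (x p x⁻¹)` centralises `R`
      rintro _ ⟨p, hp, rfl⟩
      have h2 : (x : G) * p * (x : G)⁻¹ ∈ P.map K.subtype := h.conj_P hxt hxz ⟨p, hp, rfl⟩
      obtain ⟨p', hp', hpp⟩ := h2
      have hpp' : (p' : G) = (x : G) * p * (x : G)⁻¹ := hpp
      refine ⟨p⁻¹ * p', ?_, ?_⟩
      · apply sh.cR _ (P.mul_mem (P.inv_mem hp) hp')
        intro s hs
        apply Subtype.ext
        have h3 : (x : G) * (p * s * (p : G)⁻¹) = (p * s * (p : G)⁻¹) * x :=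
          hxR' _ ⟨p * s * p⁻¹, sh.Rn p hp s hs, rfl⟩
        have h4 : (x : G)⁻¹ * s * x = s := by
          rw [mul_assoc, ← hxR' s ⟨s, hs, rfl⟩]; group
        change (p : G)⁻¹ * p' * s = s * ((p : G)⁻¹ * p')
        rw [hpp']
        calc (p : G)⁻¹ * (x * p * (x : G)⁻¹) * s
            = (p : G)⁻¹ * (x * p * ((x : G)⁻¹ * s * x) * (x : G)⁻¹) := by group
          _ = (p : G)⁻¹ * ((x * (p * s * (p : G)⁻¹)) * p * (x : G)⁻¹) := by rw [h4]; group
          _ = (p : G)⁻¹ * (((p * s * (p : G)⁻¹) * x) * p * (x : G)⁻¹) := by rw [h3]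
          _ = s * ((p : G)⁻¹ * (x * p * (x : G)⁻¹)) := by group
      · change (p : G)⁻¹ * p' = (p : G)⁻¹ * (x * p * (x : G)⁻¹)
        rw [hpp'])
    -- `r` centralises `R`
    have hrr : r = 1 ∨ r = z := by
      obtain ⟨r', hr', rfl⟩ := hr
      have h5 : ∀ s ∈ R, r' * s = s * r' := by
        intro s hs
        apply Subtype.ext
        change (r' : G) * s = s * r'
        have h6 : (K.subtype r')⁻¹ * (x : G) = 1 ∨ (K.subtype r')⁻¹ * (x : G) = t := o.Q2 _ hrx
        have h7 : Commute ((r' : G)⁻¹ * x) s := by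
          rcases h6 with e | e
          · have : (r' : G)⁻¹ * x = 1 := e
            rw [this]; exact Commute.one_left _
          · have : (r' : G)⁻¹ * x = t := e
            rw [this]; exact (h.st.Kt s s.2).symm
        have h8 : Commute (x : G) s := hxR' s ⟨s, hs, rfl⟩
        have h9 : Commute ((x : G) * ((r' : G)⁻¹ * x)⁻¹) s := h8.mul_left h7.inv_left
        have e : (x : G) * ((r' : G)⁻¹ * x)⁻¹ = r' := by group
        rw [e] at h9
        exact h9.eq
      obtain ⟨a, ha, b, hb, hab⟩ := sh.Rna
      rcases sh.Rmin (R ⊓ centralizer (R : Set K)) inf_le_left (by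
          intro y hy b hb
          refine mem_inf.2 ⟨sh.Rn y hy b hb.1, mem_centralizer_iff.2 ?_⟩
          intro s hs
          have h10 := mem_centralizer_iff.1 hb.2 (y⁻¹ * s * y) (by
            have := sh.Rn y⁻¹ (P.inv_mem hy) s hs
            rwa [inv_inv] at this)
          calc s * (y * b * y⁻¹) = y * ((y⁻¹ * s * y) * b) * y⁻¹ := by group
            _ = y * (b * (y⁻¹ * s * y)) * y⁻¹ := by rw [h10]
            _ = y * b * y⁻¹ * s := by group) with h11 | h11
      · rcases h11 r' ⟨hr', mem_centralizer_iff.2 fun s hs => (h5 s hs).symm⟩ with e | e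
        · exact Or.inl (congrArg Subtype.val e)
        · exact Or.inr (congrArg Subtype.val e)
      · exfalso
        have h12 : b ∈ R ⊓ centralizer (R : Set K) := by rw [h11]; exact hb
        exact hab (mem_centralizer_iff.1 h12.2 a ha)
    rcases hrr with e | e <;> rcases o.Q2 _ hrx with e' | e'
    · left
      apply Subtype.ext
      rw [e, inv_one, one_mul] at e'
      exact e'
    · right; right; left
      apply Subtype.ext
      rw [e, inv_one, one_mul] at e'
      exact e'
    · right; left
      apply Subtype.ext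
      rw [e, inv_mul_eq_one] at e'
      exact e'.symm
    · right; right; right
      apply Subtype.ext
      rw [e, inv_mul_eq_iff_eq_mul] at e'
      change (x : G) = t * z
      rw [e', h.comm]
  have hRP' : toX z R ≤ toX z P := fun x hx => (map_mono sh.RP) hx
  exact
    { zc := hzc
      zz := Subtype.ext hz2
      z1 := fun e => h.z1 (congrArg Subtype.val e)
      tt := Subtype.ext h.st.tt
      t1 := fun e => h.st.t1 (congrArg Subtype.val e)
      tz := htz
      RP := hRP'
      Pt := fun x hx => Subtype.ext (hPt x hx)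
      Pperf := by
        apply hinj
        rw [map_commutator, hmP, ← map_commutator, sh.perf]
      Pn := fun x hx p hp => h.conj_P ((hct x).1 hx) ((hmemH x).1 x.2) hp
      Rn := hRn
      R2 := hR2
      zR := by
        have h1 : (z : G) ∈ (⁅toX z R, toX z R⁆).map H.subtype := by
          rw [map_commutator, hmR, ← map_commutator]
          exact ⟨z, z_mem_comm sh, rfl⟩
        obtain ⟨x, hx, hxz⟩ := h1
        have : x = z' := Subtype.ext hxz
        rwa [← this]
      cR := hcR
      res := by
        intro S hSt hp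
        exact res' h sh (fun x hx => (hct x).1 (mem_centralizer_singleton_iff.1 (hSt hx))) hp
      big := by
        intro S hSt hS hp hne
        have hSP : S ≤ toX z P :=
          res' h sh (fun x hx => (hct x).1 (mem_centralizer_singleton_iff.1 (hSt hx))) hp
        have hPt' : toX z P ≤ centralizer ({t'} : Set H) := fun x hx =>
          mem_centralizer_singleton_iff.2 (Subtype.ext (hPt x hx))
        have hRt' : toX z R ≤ centralizer ({t'} : Set H) := hRP'.trans hPt'
        have h1 : (S.subgroupOf (toX z P)).IsSubnormal := by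
          have : S.subgroupOf (toX z P) = (S.subgroupOf (centralizer ({t'} : Set H))).comap (inclusion hPt') := by
            ext x; rfl
          rw [this]
          exact hS.comap _
        have hSm : (S.subgroupOf (toX z P)).map (toX z P).subtype = S := by
          rw [subgroupOf_map_subtype, inf_of_le_left hSP]
        have hRm : ((toX z R).subgroupOf (toX z P)).map (toX z P).subtype = toX z R := by
          rw [subgroupOf_map_subtype, inf_of_le_left hRP']
        have h2 : ⁅S.subgroupOf (toX z P), S.subgroupOf (toX z P)⁆ = S.subgroupOf (toX z P) := by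
          apply map_injective (toX z P).subtype_injective
          rw [map_commutator, hSm, hp]
        have h3 : S.subgroupOf (toX z P) ≠ ⊥ := by
          intro h0
          apply hne
          rw [← hSm, h0, Subgroup.map_bot]
        have h4 := (core' sh m ⟨z, sh.zP, rfl⟩).big _ h1 h2 h3
        have h5 : ⁅toX z R, S⁆ = toX z R := by
          have := congrArg (Subgroup.map (toX z P).subtype) h4
          rwa [map_commutator, hSm, hRm] at this
        -- along the subnormal chain
        have hSm' : (S.subgroupOf (centralizer ({t'} : Set H))).map (centralizer ({t'} : Set H)).subtype = S := by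
          rw [subgroupOf_map_subtype, inf_of_le_left hSt]
        have hRm' : ((toX z R).subgroupOf (centralizer ({t'} : Set H))).map
            (centralizer ({t'} : Set H)).subtype = toX z R := by
          rw [subgroupOf_map_subtype, inf_of_le_left hRt']
        have h6 : ⁅(toX z R).subgroupOf (centralizer ({t'} : Set H)), S.subgroupOf (centralizer ({t'} : Set H))⁆ =
            (toX z R).subgroupOf (centralizer ({t'} : Set H)) := by
          apply map_injective (centralizer ({t'} : Set H)).subtype_injective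
          rw [map_commutator, hSm', hRm', h5]
        have h7 := le_of_subnormal h6 le_rfl hS
        have h8 := map_mono (f := (centralizer ({t'} : Set H)).subtype) h7
        rwa [hSm', hRm'] at h8
      rad := by
        intro S hSt hS
        by_cases hcon : ∃ s ∈ S, ∃ r ∈ toX z R, r ≠ 1 ∧ r ≠ z' ∧ (s = r ∨ s = t' * r)
        · exact Or.inr hcon
        left
        push Not at hcon
        have hPt' : toX z P ≤ centralizer ({t'} : Set H) := fun x hx =>
          mem_centralizer_singleton_iff.2 (Subtype.ext (hPt x hx))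
        have hRt' : toX z R ≤ centralizer ({t'} : Set H) := hRP'.trans hPt'
        have hSc : ∀ s ∈ S, s * t' = t' * s := fun s hs => mem_centralizer_singleton_iff.1 (hSt hs)
        -- elements of odd order
        have hodd : ∀ s ∈ S, Odd (orderOf (s : G)) → (s : G) = 1 := by
          intro s hs ho
          have hst := hSc s hs
          have hAC : zpowers s ≤ centralizer ({t'} : Set H) := zpowers_le.2 (hSt hs)
          have hAS : zpowers s ≤ S := zpowers_le.2 hs
          have hAn : zpowers s ≤ normalizer ((toX z R : Subgroup H) : Set H) := by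
            intro a ha
            rw [mem_normalizer_iff]
            have hac := mem_centralizer_singleton_iff.1 (hAC ha)
            intro r
            constructor
            · exact fun hr => hRn a hac r hr
            · intro hr
              have hac' : a⁻¹ * t' = t' * a⁻¹ := mem_centralizer_singleton_iff.1 (inv_mem (hAC ha))
              have := hRn a⁻¹ hac' _ hr
              have e : a⁻¹ * (a * r * a⁻¹) * a⁻¹⁻¹ = r := by group
              rwa [e] at this
          have hos : orderOf s = orderOf (s : G) := (Subgroup.orderOf_coe s).symm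
          have hcop : (Nat.card (zpowers s)).Coprime (Nat.card (toX z R)) := by
            obtain ⟨n, hn⟩ := IsPGroup.iff_card.1 hR2
            rw [hn, Nat.card_zpowers, hos]
            exact Nat.Coprime.pow_right n ((Nat.coprime_two_right).2 ho)
          have hW := Cfsg.Agent.Lib.CoprimeCommutator.commutator_commutator_eq (zpowers s) (toX z R) hAn hcop
          have hWR : ⁅toX z R, zpowers s⁆ ≤ toX z R :=
            Cfsg.Agent.Lib.CoprimeCommutator.commutator_le_left hAn
          have hWt : ⁅toX z R, zpowers s⁆ ≤ centralizer ({t'} : Set H) := hWR.trans hRt'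
          -- `W ≤ S`
          have hWS : ⁅toX z R, zpowers s⁆ ≤ S := by
            have hCinj := map_injective (centralizer ({t'} : Set H)).subtype_injective
            have h1 : ∀ L : Subgroup H, L ≤ centralizer ({t'} : Set H) →
                (L.subgroupOf (centralizer ({t'} : Set H))).map (centralizer ({t'} : Set H)).subtype = L := by
              intro L hL
              rw [subgroupOf_map_subtype, inf_of_le_left hL]
            have h6 : ⁅(⁅toX z R, zpowers s⁆).subgroupOf (centralizer ({t'} : Set H)),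
                (zpowers s).subgroupOf (centralizer ({t'} : Set H))⁆ =
                (⁅toX z R, zpowers s⁆).subgroupOf (centralizer ({t'} : Set H)) := by
              apply hCinj
              rw [map_commutator, h1 _ hWt, h1 _ hAC, hW]
            have h7 := le_of_subnormal h6 (A := (zpowers s).subgroupOf (centralizer ({t'} : Set H)))
              (fun x hx => mem_subgroupOf.2 (hAS (mem_subgroupOf.1 hx))) hS
            have h8 := map_mono (f := (centralizer ({t'} : Set H)).subtype) h7
            rwa [h1 _ hWt, h1 _ hSt] at h8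
          have hWz : ∀ w ∈ ⁅toX z R, zpowers s⁆, w = 1 ∨ w = z' := by
            intro w hw
            by_contra hne
            push Not at hne
            exact (hcon w (hWS hw) w (hWR hw) hne.1 hne.2).1 rfl
          have hW1 : ⁅toX z R, zpowers s⁆ = ⊥ := by
            rw [← hW, commutator_eq_bot_iff_le_centralizer]
            intro w hw
            rw [mem_centralizer_iff]
            intro a _
            rcases hWz w hw with e | e
            · rw [e, mul_one, one_mul]
            · rw [e]; exact hzc a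
          rw [commutator_eq_bot_iff_le_centralizer] at hW1
          apply odd_eq_one h sh m ((hct s).1 hst) ((hmemH s).1 s.2) ho
          intro r hr
          have hrH : r ∈ H := map_le_cent hRz hr
          have hr' : (⟨r, hrH⟩ : H) ∈ toX z R := hr
          exact congrArg Subtype.val (mem_centralizer_iff.1 (hW1 hr') s (mem_zpowers s))
        -- `S` is a 2-group
        have hS2 : IsPGroup 2 S := by
          intro s
          obtain ⟨k, l, hl, hkl⟩ := Nat.exists_eq_two_pow_mul_odd (orderOf_pos ((s : H) : G)).ne'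
          refine ⟨k, Subtype.ext (Subtype.ext ?_)⟩
          apply hodd ((s : H) ^ (2 ^ k)) (pow_mem s.2 _)
          rw [SubmonoidClass.coe_pow, orderOf_pow, hkl, Nat.gcd_mul_right_left,
            Nat.mul_div_cancel_left _ (pow_pos two_pos k)]
          exact hl
        -- `O_2(C(t))`
        have hSO : S.subgroupOf (centralizer ({t'} : Set H)) ≤ pCore 2 ↥(centralizer ({t'} : Set H)) :=
          Cfsg.Agent.SignalizersComponents.CompBasic.subnormal_pGroup_le_pCore hS hS2.comap_subtype
        have hOn : (pCore 2 ↥(centralizer ({t'} : Set H))).Normal := Cfsg.Agent.Lib.Cores.pCore_normal 2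
        have hO2 : IsPGroup 2 (pCore 2 ↥(centralizer ({t'} : Set H))) := Cfsg.Agent.Lib.Cores.pCore_isPGroup 2
        -- the intersection with `P`
        set B : Subgroup K := ((((pCore 2 ↥(centralizer ({t'} : Set H))).map
          (centralizer ({t'} : Set H)).subtype).map H.subtype).subgroupOf K) ⊓ P with hB
        have hmemB : ∀ x : K, x ∈ B ↔ x ∈ P ∧ ∃ y : ↥(centralizer ({t'} : Set H)),
            y ∈ pCore 2 ↥(centralizer ({t'} : Set H)) ∧ ((y : H) : G) = x := by
          intro x
          rw [hB, mem_inf, mem_subgroupOf]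
          constructor
          · rintro ⟨⟨_, ⟨y, hy, rfl⟩, e⟩, hx⟩
            exact ⟨hx, y, hy, e⟩
          · rintro ⟨hx, y, hy, e⟩
            exact ⟨⟨_, ⟨y, hy, rfl⟩, e⟩, hx⟩
        have hBR : B ≤ R := by
          apply sh.Rmax _ inf_le_right
          · have h1 : IsPGroup 2 (((pCore 2 ↥(centralizer ({t'} : Set H))).map
              (centralizer ({t'} : Set H)).subtype).map H.subtype) := (hO2.map _).map _
            exact (h1.comap_of_injective K.subtype K.subtype_injective).to_le inf_le_left
          · intro x hx b hb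
            obtain ⟨hbP, y, hy, e⟩ := (hmemB b).1 hb
            have hxH : (x : G) ∈ H := (hmemH x).2 (congrArg Subtype.val (sh.cen x hx))
            have hxt : (⟨x, hxH⟩ : H) ∈ centralizer ({t'} : Set H) :=
              mem_centralizer_singleton_iff.2 (Subtype.ext (h.st.Kt x x.2))
            refine (hmemB _).2 ⟨P.mul_mem (P.mul_mem hx hbP) (P.inv_mem hx), ⟨⟨x, hxH⟩, hxt⟩ * y *
              ⟨⟨x, hxH⟩, hxt⟩⁻¹, hOn.conj_mem y hy _, ?_⟩
            change (x : G) * ((y : H) : G) * (x : G)⁻¹ = x * b * (x : G)⁻¹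
            rw [e]
        intro s hs
        have hst := hSc s hs
        have hsO : (⟨s, hSt hs⟩ : ↥(centralizer ({t'} : Set H))) ∈ pCore 2 ↥(centralizer ({t'} : Set H)) :=
          hSO (mem_subgroupOf.2 hs)
        have hs2 : IsPGroup 2 (zpowers (s : G)) := by
          obtain ⟨k, hk⟩ := hS2 ⟨s, hs⟩
          have h1 : (s : G) ^ (2 ^ k) = 1 := by
            have := congrArg (fun x : S => ((x : H) : G)) hk
            simpa using this
          obtain ⟨j, -, hj⟩ := (Nat.dvd_prime_pow Nat.prime_two).1 (orderOf_dvd_of_pow_eq_one h1)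
          exact IsPGroup.of_card (by rw [Nat.card_zpowers, hj])
        obtain ⟨r, hr, hrs⟩ := mem_of_trivial h sh hs2 ((hct s).1 hst) ((hmemH s).1 s.2) (by
          rintro _ ⟨p, hp, rfl⟩
          have hpH : (p : G) ∈ H := (hmemH p).2 (congrArg Subtype.val (sh.cen p hp))
          have hpt : (⟨p, hpH⟩ : H) ∈ centralizer ({t'} : Set H) :=
            mem_centralizer_singleton_iff.2 (Subtype.ext (h.st.Kt p p.2))
          have h2 : (s : G) * p * (s : G)⁻¹ ∈ P.map K.subtype :=
            h.conj_P ((hct s).1 hst) ((hmemH s).1 s.2) ⟨p, hp, rfl⟩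
          obtain ⟨p', hp', hpp⟩ := h2
          have hpp' : (p' : G) = (s : G) * p * (s : G)⁻¹ := hpp
          refine ⟨p⁻¹ * p', hBR ((hmemB _).2 ⟨P.mul_mem (P.inv_mem hp) hp', ?_⟩), ?_⟩
          · refine ⟨(⟨⟨p, hpH⟩, hpt⟩⁻¹ * ⟨s, hSt hs⟩ * ⟨⟨p, hpH⟩, hpt⟩) * ⟨s, hSt hs⟩⁻¹, ?_, ?_⟩
            · refine mul_mem ?_ (inv_mem hsO)
              have := hOn.conj_mem _ hsO (⟨⟨p, hpH⟩, hpt⟩⁻¹)
              rwa [inv_inv] at this
            · change (p : G)⁻¹ * s * p * (s : G)⁻¹ = (p : G)⁻¹ * p'
              rw [hpp']; group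
          · change (p : G)⁻¹ * p' = (p : G)⁻¹ * (s * p * (s : G)⁻¹)
            rw [hpp'])
        -- the end
        have hrH : r ∈ H := map_le_cent hRz hr
        have hr' : (⟨r, hrH⟩ : H) ∈ toX z R := hr
        rcases o.Q2 _ hrs with e | e
        · have e1 : s = ⟨r, hrH⟩ := Subtype.ext (inv_mul_eq_one.1 e).symm
          by_cases hr1 : (⟨r, hrH⟩ : H) = 1
          · left; rw [e1, hr1]
          by_cases hrz : (⟨r, hrH⟩ : H) = z'
          · right; left; rw [e1, hrz]
          · exact absurd e1 (hcon s hs _ hr' hr1 hrz).1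
        · have e1 : s = t' * ⟨r, hrH⟩ := by
            apply Subtype.ext
            change (s : G) = t * r
            rw [inv_mul_eq_iff_eq_mul] at e
            rw [e]
            exact (hPt r (map_mono sh.RP hr))
          by_cases hr1 : (⟨r, hrH⟩ : H) = 1
          · right; right; left; rw [e1, hr1, mul_one]
          by_cases hrz : (⟨r, hrH⟩ : H) = z'
          · right; right; right; rw [e1, hrz]
          · exact absurd e1 (hcon s hs _ hr' hr1 hrz).2
      prim := by
        intro U hzU hUR hU
        have hUP : U ≤ toX z P := hUR.trans hRP'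
        have hUm : (U.subgroupOf (toX z P)).map (toX z P).subtype = U := by
          rw [subgroupOf_map_subtype, inf_of_le_left hUP]
        have hRm : ((toX z R).subgroupOf (toX z P)).map (toX z P).subtype = toX z R := by
          rw [subgroupOf_map_subtype, inf_of_le_left hRP']
        rcases (core' sh m ⟨z, sh.zP, rfl⟩).prim (U.subgroupOf (toX z P)) (mem_subgroupOf.2 hzU)
          (by
            intro x hx
            exact mem_subgroupOf.2 (hUR (mem_subgroupOf.1 hx))) (by
            intro p
            have h1 : (cj p (U.subgroupOf (toX z P))).map (toX z P).subtype = cj (p : H) U := by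
              rw [← cj_map, hUm]; rfl
            rcases hU p p.2 with h2 | h2
            · left
              apply map_injective (toX z P).subtype_injective
              rw [h1, hUm, h2]
            · right
              intro x hx y hy
              apply Subtype.ext
              apply h2 x (mem_subgroupOf.1 hx)
              rw [← h1]
              exact ⟨y, hy, rfl⟩) with h1 | h1
        · left
          intro u hu
          rcases h1 ⟨u, hUP hu⟩ (mem_subgroupOf.2 hu) with h2 | h2
          · left; exact congrArg Subtype.val h2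
          · right; exact congrArg Subtype.val h2
        · right
          rw [← hUm, h1, hRm] }

/-- `P ≤ M` for every component `M` of `C_G(z)` -/
theorem main_comp (C : Ctx G) (hSch : Cfsg.Agent.Schreier.Cases.SchFor.{u} @IsKnownSimple')
    (hGW : SylowSp4.Hyps.GW.{u}) {K : Subgroup G} {t q : G} {z : K} {P R : Subgroup K}
    (o : Out K t q z P) (sh : SheetX z P R) (m : SheetM P R)
    {M : Subgroup ↥(centralizer ({(z : G)} : Set G))} (hM : IsComponent M) :
    toX z P ≤ M ∧
      (((⟨t, mem_centralizer_singleton_iff.2 o.emb.comm⟩ : ↥(centralizer ({(z : G)} : Set G))) ∈ M) ∨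
        (⟨t, mem_centralizer_singleton_iff.2 o.emb.comm⟩ : ↥(centralizer ({(z : G)} : Set G))) ∉
          M ⊔ centralizer (M : Set ↥(centralizer ({(z : G)} : Set G)))) := by
  have hfin := C.fin
  have h := hyp o sh m
  have hz := D8.MainE.orderOf_z o.emb
  have hcomp := compOf_map hM
  have hSchM : Sch (↥M ⧸ center ↥M) := by
    have e : ↥(M.map (centralizer ({(z : G)} : Set G)).subtype) ≃* ↥M :=
      (M.equivMapOfInjective _ (centralizer ({(z : G)} : Set G)).subtype_injective).symm
    exact Cfsg.Agent.Schreier.Balance.sch_center_quotient e (sch_of_comp C hSch hz hcomp)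
  have hev : 2 ∣ Nat.card M := by
    have h1 := even_card C hz hcomp
    rwa [Nat.card_congr (M.equivMapOfInjective _
      (centralizer ({(z : G)} : Set G)).subtype_injective).toEquiv.symm] at h1
  rcases h.main hM (fun hn => le_sup_centralizer hM.2.1 hSchM h.Pperf hn) hev with ⟨hzM, huniq⟩ | ⟨hP, h2⟩
  · exfalso
    refine rank_two C hGW hz hcomp ⟨_, hzM, rfl⟩ ?_
    intro E _ hE
    -- all the elements of `E` are in `{1, z}`
    have hEz : ∀ x ∈ E, x = 1 ∨ ((x : ↥(M.map (centralizer ({(z : G)} : Set G)).subtype)) : G) = z := by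
      intro x hx
      obtain ⟨y, hy, hyx⟩ := x.2
      have h1 : ((x : ↥(M.map (centralizer ({(z : G)} : Set G)).subtype)) : G) *
          ((x : ↥(M.map (centralizer ({(z : G)} : Set G)).subtype)) : G) = 1 := by
        have := congrArg Subtype.val (hE x hx)
        rw [pow_two] at this
        exact this
      rcases huniq y hy (by
        apply Subtype.ext
        change (y : G) * y = 1
        have hyx' : (y : G) = ((x : ↥(M.map (centralizer ({(z : G)} : Set G)).subtype)) : G) := hyx
        rw [hyx']; exact h1) with e | e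
      · left
        apply Subtype.ext
        rw [← hyx, e]; rfl
      · right
        rw [← hyx, e]; rfl
    have hle : E ≤ zpowers (⟨z, ⟨_, hzM, rfl⟩⟩ : ↥(M.map (centralizer ({(z : G)} : Set G)).subtype)) := by
      intro x hx
      rcases hEz x hx with e | e
      · rw [e]; exact one_mem _
      · have : x = ⟨z, ⟨_, hzM, rfl⟩⟩ := Subtype.ext e
        rw [this]; exact mem_zpowers _
    have hcard := Subgroup.card_le_of_le hle
    rw [Nat.card_zpowers] at hcard
    have ho : orderOf (⟨z, ⟨_, hzM, rfl⟩⟩ : ↥(M.map (centralizer ({(z : G)} : Set G)).subtype)) = 2 := by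
      rw [← Subgroup.orderOf_coe]; exact hz
    rw [ho] at hcard
    exact hcard
  · refine ⟨hP, ?_⟩
    rcases h2 with h3 | h3
    · exact Or.inl h3.1
    · exact Or.inr h3

/-- **case (M)** -/
theorem noCompX (hSch : Cfsg.Agent.Schreier.Cases.SchFor.{u} @IsKnownSimple')
    (hGW : SylowSp4.Hyps.GW.{u}) (hI : Cfsg.Agent.OddHalf.CaseM.Intr.{u}) (hS : IntrSign.{u})
    (G : Type u) [Group G] (C : Ctx G) (K : Subgroup G) (t q : G) (z : K) (P R : Subgroup K)
    (o : Out K t q z P) (sh : SheetX z P R) (m : SheetM P R)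
    (M : Subgroup ↥(centralizer ({(z : G)} : Set G))) : ¬ IsComponent M := by
  intro hM
  have hfin := C.fin
  have hsimp := C.simple
  have h := hyp o sh m
  have hz := D8.MainE.orderOf_z o.emb
  have hcomp := compOf_map hM
  have htH : t ∈ centralizer ({(z : G)} : Set G) := mem_centralizer_singleton_iff.2 o.emb.comm
  obtain ⟨hP, hcase⟩ := main_comp C hSch hGW o sh m hM
  have hzM : (z : G) ∈ M.map (centralizer ({(z : G)} : Set G)).subtype :=
    ⟨⟨z, mem_centralizer_singleton_iff.2 rfl⟩, hP ⟨z, sh.zP, rfl⟩, rfl⟩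
  have hrk := rank_two C hGW hz hcomp hzM
  have hq := Soft.CompOf.quasisimple hcomp
  have hnt := Soft.CompOf.ne_top C.na hz hcomp
  have hkn := Known.known_quotient C.kproper _ hnt _ hq.2 (Soft.quo_na hq)
  -- `t` does not centralise `M`
  have hnc : ∃ x ∈ M.map (centralizer ({(z : G)} : Set G)).subtype, t * x ≠ x * t := by
    by_contra hcon
    push Not at hcon
    refine h.not_quasisimple hM.2 (h.RP.trans hP) ?_
    intro x hx
    exact Subtype.ext (hcon x ⟨x, hx, rfl⟩).symm
  rcases hcase with htM | htM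
  · -- `t ∈ M`
    obtain ⟨-, hcent, hnorm, hstd⟩ := Table.lemmaS (D₀ := (P.map K.subtype : Subgroup G)) hz o.emb.st.tt
      hcomp.1 hcomp.2 hzM (by
        intro d hd
        have hdH : d ∈ centralizer ({(z : G)} : Set G) := map_le_cent sh.cen hd
        exact ⟨⟨d, hdH⟩, hP hd, rfl⟩) (by
        intro y hyz hyt hyP
        have hyH : y ∈ centralizer ({(z : G)} : Set G) := mem_centralizer_singleton_iff.2 hyz
        rcases h.cR ⟨y, hyH⟩ (Subtype.ext hyt) (by
          intro r hr
          exact Subtype.ext (hyP r (h.RP hr))) with e | e | e | e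
        · exact Or.inl (congrArg Subtype.val e)
        · exact Or.inr (Or.inr (Or.inl (congrArg Subtype.val e)))
        · exact Or.inr (Or.inl (congrArg Subtype.val e))
        · exact Or.inr (Or.inr (Or.inr (congrArg Subtype.val e))))
      ⟨t, ⟨_, htM, rfl⟩, fun x _ => rfl⟩ hnc
    exact hI G C _ z
      { hz := hz
        comp := hcomp
        zM := hzM
        cent := hcent
        norm := hnorm
        std := hstd
        ne_top := hnt
        z2 := Soft.CompOf.center_isPGroup (C.bal _ hz) hcomp
        rk2 := hrk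
        simple := hq.2
        quo_na := Soft.quo_na hq
        known := hkn }
  · -- `t ∉ M C(M)`: `M` is normal
    have hcj : ∀ g : ↥(centralizer ({(z : G)} : Set G)), cj g M = M := by
      intro g
      by_contra hne
      have hM2 : IsComponent (cj g M) := Cfsg.Agent.Cit.Comp.isComponent_cj hM g
      obtain ⟨hP2, -⟩ := main_comp C hSch hGW o sh m hM2
      apply h.Rna
      intro a ha b hb
      exact Cfsg.Agent.Cit.Comp.comm_of_ne hM hM2 (fun e => hne e.symm) (hP (h.RP ha)) (hP2 (h.RP hb))
    have hn : ∀ g ∈ centralizer ({(z : G)} : Set G), ∀ x ∈ M.map (centralizer ({(z : G)} : Set G)).subtype,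
        g * x * g⁻¹ ∈ M.map (centralizer ({(z : G)} : Set G)).subtype := by
      rintro g hg _ ⟨x, hx, rfl⟩
      refine ⟨⟨g, hg⟩ * x * ⟨g, hg⟩⁻¹, ?_, rfl⟩
      have := conj_mem_cj (g := (⟨g, hg⟩ : ↥(centralizer ({(z : G)} : Set G)))) hx
      rwa [hcj] at this
    have hperf : ⁅M.map (centralizer ({(z : G)} : Set G)).subtype,
        M.map (centralizer ({(z : G)} : Set G)).subtype⁆ = M.map (centralizer ({(z : G)} : Set G)).subtype := by
      rw [← map_commutator, isPerfect_iff.1 hM.2.1]
    obtain ⟨lam, hlam, -, -⟩ := Table.exists_lam_sub hcomp.1 hn hperf (MulEquiv.refl _)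
      (hS G C _ z hz hcomp hzM hrk hq.2 (Soft.quo_na hq) hkn) htH (by
        intro x _
        rw [o.emb.st.tt, one_mul, mul_one]) (by
        rintro _ ⟨x, hx, rfl⟩ c hc hcx e
        apply htM
        have e1 : (⟨t, htH⟩ : ↥(centralizer ({(z : G)} : Set G))) = x * ⟨c, hc⟩ := Subtype.ext e
        rw [e1]
        refine mul_mem (mem_sup_left hx) (mem_sup_right ?_)
        rw [mem_centralizer_iff]
        intro y hy
        exact Subtype.ext (hcx y ⟨y, hy, rfl⟩).symm)
    have h1 : commutator (centralizer ({(z : G)} : Set G)) ≤ lam.ker := Abelianization.commutator_subset_ker lam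
    have h2 : lam ⟨t, htH⟩ = 1 := h1 o.com
    rw [h2] at hlam
    exact absurd hlam (by decide)

end

end Cfsg.Agent.OddHalf.D8.JTwo.CaseM

end

-- merged: Cfsg.Agent.OddHalf.D8.JTwo.SheetM
section

/-!
# The sheet of case (M) of `J₂` (helper206)
-/

set_option autoImplicit false

namespace Cfsg.Agent.OddHalf.D8.JTwo.SheetM

open Subgroup Cfsg.Agent.J2Type.Model Cfsg.Agent.J2Type.CStruct
open Cfsg.Agent.J3Type.OneClass Cfsg.Agent.KFacts Cfsg.Agent.KFacts.J2.Basic
open Cfsg.Agent.OddHalf Cfsg.Agent.OddHalf.D8.JTwo.Sheet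

open scoped commutatorElement

/-- the sheet of case (M) for a centraliser `2^{1+4}_- : A₅` -/
theorem sheetM_of {K : Type*} [Group K] [Finite K] {z : K} {Q : Subgroup (centralizer ({z} : Set K))}
    {v : Fin 5 → centralizer ({z} : Set K)} {ρ : centralizer ({z} : Set K) →* SP}
    (hc : Nat.card (centralizer ({z} : Set K)) = 1920)
    (M : IsModel Q (zc z) v ρ) (hout : ∃ n, (MulAut.conj : K →* MulAut K).range.index = 2 ^ n)
    (h : SheetX z (centralizer ({z} : Set K)) (Q.map (centralizer ({z} : Set K)).subtype)) :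
    CaseM.SheetM (centralizer ({z} : Set K)) (Q.map (centralizer ({z} : Set K)).subtype) where
  big := by
    apply D8.JTwo.CaseM.big_of_quasisimple h
    intro N hN hQ hn
    rcases QMinus.normal_cases' M N hN hn with h1 | h1
    · left
      rw [commutator_le]
      intro x hx y hy
      have h4 : x * (y * x⁻¹ * y⁻¹) ∈ N := N.mul_mem hx (hn y hy _ (N.inv_mem hx))
      apply h1
      rw [commutatorElement_def]
      simpa only [mul_assoc] using h4
    · right
      rwa [sup_eq_left.2 hQ] at h1
  idx := by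
    refine ⟨2, ?_, ?_⟩
    · have h1 : Nat.card Q = 32 := by
        have := QMinus.card_mul M
        omega
      rw [Nat.card_congr (Q.equivMapOfInjective _ (centralizer ({z} : Set K)).subtype_injective).toEquiv.symm, h1]
      norm_num
    · intro H hH hle
      have h0 : H.relIndex (centralizer ({z} : Set K)) ≠ 0 := by
        rw [relIndex]; exact FiniteIndex.index_ne_zero
      have h1 := QMinus.index_le_two M (H.subgroupOf (centralizer ({z} : Set K))) (by
        change H.relIndex (centralizer ({z} : Set K)) = 1 ∨ H.relIndex (centralizer ({z} : Set K)) = 2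
        omega)
      apply le_antisymm hH
      intro x hx
      have h2 : (⟨x, hx⟩ : centralizer ({z} : Set K)) ∈ H.subgroupOf (centralizer ({z} : Set K)) := by
        rw [h1]; exact mem_top _
      exact h2
  odd := D8.JTwo.CaseM.odd_of_index h hout ⟨0, by rw [pow_zero, relIndex_self]⟩

/-- the sheet of case (M) of `J₂` -/
theorem sheetM {X : Type*} [Group X] [Finite X] {t u : X} {Q : Subgroup (centralizer ({t} : Set X))}
    {v : Fin 5 → centralizer ({t} : Set X)} {ρ : centralizer ({t} : Set X) →* SP} (D : Dat t u Q v ρ) :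
    CaseM.SheetM (centralizer ({t} : Set X)) (Q.map (centralizer ({t} : Set X)).subtype) := by
  refine sheetM_of D.cardC D.M ?_ (J2.SheetX.sheetX D)
  rcases J2.SheetX.index_le D with hi | hi
  · exact ⟨0, by rw [hi, pow_zero]⟩
  · exact ⟨1, by rw [hi, pow_one]⟩

end Cfsg.Agent.OddHalf.D8.JTwo.SheetM

end
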